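import Cfsg.Agent.Cit.Nil.RTwoM.ANt.Three
import Cfsg.Agent.Cit.Nil.CompR.Count
import Cfsg.Agent.Cit.Nil.AN.Four

/-!
# Step (4) of `AN(s)`, any `r`: `T₀` is strongly closed in `S`; the theorem
-/

set_option autoImplicit false
set_option linter.unusedSectionVars false

namespace Cfsg.Agent.Cit.Nil.ANR

open Subgroup Cfsg Cfsg.Agent.Cit Cfsg.Agent.StdEven.Syl Cfsg.Agent.OddOrderLocal.NilParts
open Cfsg.Agent.Cit.Nil.AN (Cm Ce Om St Cl Gp OneC OmZ T0 TS cl_refl cl_sub cl_step cl_cm cl_symm cl_trans cl_eq le_Gp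
  Gp_le Gp_ce M0 isSyl_cj isPGroup_zpowers_inv self_mem_oP TPr)

variable {G : Type*} [Group G] {Z : Set G} {K : G → Subgroup G} {KK : Set G}

section

variable [Finite G]

/-- Step (4): `T₀` is strongly closed in `S` -/
theorem Fs.closed {S : Subgroup G} (F : Fs Z K S KK) (h : CompR.GW Z K) (cn : CompR.CnZ Z K) :
    IsStronglyClosed (T0 Z K S) S := by
  have hT0S : T0 Z K S ≤ S := F.w.T0_le.trans (F.w.TS_le_S F.hS.two)
  refine ⟨hT0S, fun t ht g hb => ?_⟩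
  by_contra hno
  set b := g * t * g⁻¹ with hbdef
  have ht1 : t ≠ 1 := by
    rintro rfl
    apply hno
    rw [hbdef, mul_one, mul_inv_cancel]
    exact one_mem _
  have htt : t * t = 1 := F.w.TS_sq F.hS (F.w.T0_le ht)
  have hbb : b * b = 1 := by
    calc b * b = g * (t * t) * g⁻¹ := by rw [hbdef]; group
      _ = 1 := by rw [htt]; group
  have hgM : g ∉ M0 Z K S := fun hg => hno (conj_mem_of_mem_normalizer hg ht)
  -- elements commuting with `b`
  have hC : ∀ x : G, x * b = b * x → g⁻¹ * x * g ∈ M0 Z K S := by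
    intro x hx
    apply F.cent_le ht ht1
    calc g⁻¹ * x * g * t = g⁻¹ * (x * b) * g := by rw [hbdef]; group
      _ = g⁻¹ * (b * x) * g := by rw [hx]
      _ = t * (g⁻¹ * x * g) := by rw [hbdef]; group
  -- `b` moves all members
  have hmv : ∀ z ∈ OmZ Z K S, b * z * b⁻¹ ≠ z := by
    intro z hz he
    have h1 : z * b = b * z := by
      calc z * b = b * z * b⁻¹ * b := by rw [he]
        _ = b * z := by group
    have h2 := hC z h1
    have h3 : g⁻¹ * z * g⁻¹⁻¹ ∈ M0 Z K S := by rwa [inv_inv]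
    have h4 := F.mem_M0 (F.fr.sub hz) h3
    exact hgM (by rw [← inv_inv g]; exact inv_mem h4)
  have hbz : ∀ z ∈ OmZ Z K S, b * z * b⁻¹ ∈ OmZ Z K S := fun z hz => F.w.S_nor F.hS hb hz
  -- the Sylow subgroup `S'`
  set C : Subgroup G := S ⊓ centralizer {b} with hCdef
  have hC2 : IsPGroup 2 C := F.hS.two.to_le inf_le_left
  have hCg : cj g⁻¹ C ≤ M0 Z K S := by
    intro x hx
    rw [mem_cj, inv_inv] at hx
    have h1 := hC _ (mem_centralizer_singleton_iff.1 (mem_inf.1 hx).2)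
    have e : g⁻¹ * (g * x * g⁻¹) * g = x := by group
    rwa [e] at h1
  obtain ⟨n, hn, hn2⟩ := F.isSyl_M0.exists_conj (isPGroup_cj hC2) hCg
  set g' := g * n⁻¹ with hg'
  have hg'M : g' ∉ M0 Z K S := by
    intro h1
    apply hgM
    have : g = g' * n := by rw [hg']; group
    rw [this]
    exact mul_mem h1 hn
  have hCS' : C ≤ cj g' S := by
    intro x hx
    rw [mem_cj]
    have h1 := hn2 _ (conj_mem_cj (g := g⁻¹) hx)
    have e : n * (g⁻¹ * x * g⁻¹⁻¹) * n⁻¹ = g'⁻¹ * x * g' := by rw [hg']; group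
    rwa [e] at h1
  obtain ⟨P, hP⟩ := F.hS.exists_sylow
  obtain ⟨P', hP'⟩ := (isSyl_cj F.hS g').exists_sylow
  have hmem : ∀ z ∈ OmZ Z K S, ∀ k ∈ K z, k * (b * k * b⁻¹) ∈ C := by
    intro z hz k hk
    have h1 : k ∈ S := hz.2 hk
    have h2 : b * k * b⁻¹ ∈ K (b * z * b⁻¹) := by
      rw [F.w.conjK z hz.1]
      exact conj_mem_cj hk
    have h3 : k * (b * k * b⁻¹) = (b * k * b⁻¹) * k :=
      F.w.om_cm hz (hbz z hz) (Ne.symm (hmv z hz)) F.hS.two k hk _ h2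
    have hbi : b⁻¹ = b := inv_eq_of_mul_eq_one_right hbb
    refine mem_inf.2 ⟨mul_mem h1 (mul_mem (mul_mem hb h1) (inv_mem hb)), ?_⟩
    rw [mem_centralizer_singleton_iff]
    calc k * (b * k * b⁻¹) * b = k * b * k := by group
      _ = (b * b) * (k * b * k) := by rw [hbb, one_mul]
      _ = b * ((b * k * b) * k) := by group
      _ = b * ((b * k * b⁻¹) * k) := by rw [hbi]
      _ = b * (k * (b * k * b⁻¹)) := by rw [h3]
  refine CompR.Mv.false (Z := Z) (K := K) (S := P) (S' := P') (b := b) ⟨h, cn, ?_, ?_, hbb, ?_, ?_, ?_⟩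
  · obtain ⟨a, ha, -⟩ := F.three
    rw [hP]
    exact ⟨a, ha⟩
  · rw [hP]; exact hb
  · intro y hy
    rw [hP] at hy
    exact hmv y hy
  · intro y hy k hk
    rw [hP] at hy
    rw [hP']
    exact hCS' (hmem y hy k hk)
  · intro x hx hx1 p hp he
    rw [hP'] at hp
    have hxT : x ∈ T0 Z K S := by
      have h1 : Subgroup.closure {x | ∃ y ∈ ROne.CS Z K (P : Subgroup G), x = y * (b * y * b⁻¹)} ≤ T0 Z K S := by
        rw [closure_le]
        rintro _ ⟨z, hz, rfl⟩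
        rw [hP] at hz
        exact F.w.mul_mem_T0 hz (hbz z hz)
      exact h1 hx
    have h3 : p * x = x * p := by
      calc p * x = x * p * x⁻¹ * x := by rw [he]
        _ = x * p := by group
    have h4 : p ∈ M0 Z K S := F.cent_le hxT hx1 h3
    have h5 := F.w.omZ_cj.1 hp
    apply hg'M
    apply F.mem_M0 (F.fr.sub h5)
    have e : g' * (g'⁻¹ * p * g') * g'⁻¹ = p := by group
    rwa [e]

end

/-- **`AN(s)`** for `m ≥ 3` -/
theorem an [Finite G] (w : AX Z K) (h : CompR.GW Z K) (cn : CompR.CnZ Z K) {S : Subgroup G} (hS : IsSyl S ⊤)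
    (three : ∃ z₁ ∈ OmZ Z K S, ∃ z₂ ∈ OmZ Z K S, ∃ z₃ ∈ OmZ Z K S, z₁ ≠ z₂ ∧ z₁ ≠ z₃ ∧ z₂ ≠ z₃)
    (tp : TPr Z K S) (ncl : AN.NoCl Z S) {s : G} (hs : s ∈ TS Z K S) (hs1 : s ≠ 1) {z : G} (hz : z ∈ Z)
    (hsz : Ce s (K z)) : z ∈ oP 2 (centralizer {s}) := by
  by_contra hn
  have three' := three
  obtain ⟨a, ha, b, hb, -, -, hab, -, -⟩ := three'
  obtain ⟨KK, fr⟩ := w.exists_fr hS tp hs hs1 ⟨hz, hsz⟩ hn ha hb hab
  have F : Fs Z K S KK := ⟨w, hS, fr, three⟩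
  obtain ⟨t, ht, ht1⟩ := F.exists_t
  refine ncl (T0 Z K S) ?_ ?_ (fun x hx y hy => w.T0_comm hS hx hy) (F.closed h cn)
  · intro h1
    rw [h1, mem_bot] at ht
    exact ht1 ht
  · refine w.T0_le.trans ?_
    exact closure_mono fun x hx => hx.1

end Cfsg.Agent.Cit.Nil.ANR
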