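import Cfsg.Agent.Cit.Nil.RTwoM.ANt.Fix
import Cfsg.Agent.Cit.Nil.RTwoM.ANt.Four
import Cfsg.Agent.Cit.Nil.RTwoM.L1.SwapW
import Cfsg.Agent.Cit.Nil.RTwoM.Leaf
import Cfsg.Agent.Cit.Nil.CompR.Frame
import Cfsg.Agent.Cit.Nil.AN.Main

/-!
# S1309 (6b), (C3), `r = 2`, NIL, `m ≥ 3`: `AN(s)` for `s ∈ T_S`, `s ≠ 1`

* `NilG Om` : all C-pairs are nil (the first case of `CompR.trich`); `ANR.AX (RG.ZZ Om) (RR Om)` : `WM.ax`;
* **`ANT.of_three`** : `WM`, one class, `NilG`, `CompR.TP`, no strongly closed commutative subgroup, `m ≥ 3`: `ANT Om`;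
* **`LW.ant_of_three`**.
-/

set_option autoImplicit false
set_option linter.style.haveILetI false
set_option linter.unusedSectionVars false

namespace Cfsg.Agent.Cit.Nil.RTwoM

open Subgroup Cfsg Cfsg.Agent.Cit
open RG (WR CP Ov InO RR)
open RI (CS)
open Cfsg.Agent.StdEven.Syl Cfsg.Agent.OddOrderLocal.NilParts
open Cfsg.Agent.Cit.Nil.AN (Ce Cm OmZ TS T0)
open Cfsg.Agent.Cit.Nil.CompR (GW)

variable {G : Type*} [Group G] {Om : Set (Subgroup G)} {K L M S P : Subgroup G} {s t u x y z g : G}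

/-- all C-pairs are nil -/
def NilG (Om : Set (Subgroup G)) : Prop := ∀ z ∈ RG.ZZ Om, ∀ u ∈ RG.ZZ Om, ROne.CP (RR Om) z u → u ∈ oP 2 (centralizer {z})

section Fin

variable [Finite G]

theorem WM.gw (h : WM Om) : GW (RG.ZZ Om) (RR Om) := GW.of_wr h.wr h.hyp

theorem WM.bg (h : WM Om) : ANR.BG (RG.ZZ Om) (RR Om) := ANR.BG.of_gw h.gw

/-- a member of a 2-group containing the `R_z`, `z ∈ OmZ S` -/
theorem mem_omz (h : WM Om) (hS : IsSyl S ⊤) (hP : IsPGroup 2 P) (hPS : ∀ z ∈ OmZ (RG.ZZ Om) (RR Om) S, RR Om z ≤ P)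
    (hK : Mem Om x K) (hKP : K ≤ P) : x ∈ OmZ (RG.ZZ Om) (RR Om) S := by
  haveI : Fact (Nat.Prime 2) := ⟨Nat.prime_two⟩
  obtain ⟨Q, hQ⟩ := hP.exists_le_sylow
  have h0 : x ∈ CS Om (Q : Subgroup G) := ⟨K, hK, hKP.trans hQ⟩
  have h1 : RR Om x ≤ Q := by
    rw [RR_eq]
    exact CS.RZ_le h0 h
  exact h.bg.om_eq hS Q.isPGroup' (fun z hz => (hPS z hz).trans hQ) hK.inZ h1

/-- `C_S` -/
theorem mem_CS_iff (h : WM Om) (S : Sylow 2 G) : z ∈ CS Om (S : Subgroup G) ↔ z ∈ OmZ (RG.ZZ Om) (RR Om) (S : Subgroup G) := by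
  constructor
  · intro hz
    refine ⟨(CS.inZ hz : InZ Om z), ?_⟩
    rw [RR_eq]
    exact CS.RZ_le hz h
  · rintro ⟨⟨K, hK⟩, h1⟩
    exact ⟨K, hK, (WR.le_RR hK).trans h1⟩

theorem CS_eq_OmZ (h : WM Om) (S : Sylow 2 G) : CS Om (S : Subgroup G) = OmZ (RG.ZZ Om) (RR Om) (S : Subgroup G) := by
  ext z
  exact mem_CS_iff h S

theorem TT_eq_TS (h : WM Om) (S : Sylow 2 G) : TT Om (S : Subgroup G) = TS (RG.ZZ Om) (RR Om) (S : Subgroup G) := by
  unfold TT TS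
  rw [CS_eq_OmZ h S]

/-- `t ∈ T_S` centralising a member over `x` centralises `R_x` -/
theorem pc (h : WM Om) (hS : IsSyl S ⊤) (ht : t ∈ TS (RG.ZZ Om) (RR Om) S) (hx : PCe Om t x) : Ce t (RR Om x) := by
  obtain ⟨K, hK, hKt⟩ := hx
  have hw := h.bg
  obtain ⟨D, -, hD2, hKD, hD⟩ := hw.exists_D hS
  have hDt : D ≤ centralizer {t} := fun d hd =>
    mem_centralizer_singleton_iff.2 (hD t (fun z hz => hw.TS_ce hS ht hz) d hd).symm
  obtain ⟨P, hP, hDP⟩ := exists_isSyl hD2 hDt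
  have hKC : K ≤ centralizer {t} := fun k hk => mem_centralizer_singleton_iff.2 (hKt k hk).symm
  obtain ⟨c, hc, hc2⟩ := hP.exists_conj (h.isPGroup hK.1) hKC
  have hct : c * t = t * c := mem_centralizer_singleton_iff.1 hc
  have h1 : c * x * c⁻¹ ∈ OmZ (RG.ZZ Om) (RR Om) S := by
    refine mem_omz h hS hP.two (fun u hu => (hKD u hu).trans hDP) (hK.cj h c) ?_
    intro y hy
    rw [mem_cj] at hy
    have := hc2 _ hy
    have e : c * (c⁻¹ * y * c) * c⁻¹ = y := by group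
    rwa [e] at this
  have h2 := hw.TS_ce hS ht h1
  rw [hw.conjK x hK.inZ c] at h2
  have h3 := h2.cj c⁻¹
  have e1 : c⁻¹ * t * c⁻¹⁻¹ = t := by
    rw [inv_inv]
    calc c⁻¹ * t * c = c⁻¹ * (t * c) := by group
      _ = c⁻¹ * (c * t) := by rw [hct]
      _ = t := by group
  rwa [e1, cj_inv_cj] at h3

theorem WM.ax (h : WM Om) (cl : OneCl Om) (hn : NilG Om) : ANR.AX (RG.ZZ Om) (RR Om) where
  toBG := h.bg
  cls := fun z hz u hu => cl z u hz hu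
  nil := fun z hz u hu hc => hn z hz u hu ((CompR.cp_iff h.gw hz).2 hc)
  swap := by
    intro x hx z hz hc
    have h1 : ROne.CSw (RZ Om) z x := by
      have h2 := (CompR.cp_iff h.gw hz).2 hc
      unfold ROne.CSw
      refine ⟨h2.1, fun a ha b hb => h2.2 a (by rw [RR_eq]; exact ha) b (by rw [RR_eq]; exact hb)⟩
    have h2 := h.ws.wt_cen_v (u := z) (v := x) hz hx h1
    intro k hk
    rw [RR_eq] at hk
    exact h2 k hk
  cor := by
    intro x hx a ha r hr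
    rw [RR_eq] at ha hr
    exact RZ_conj_or h hx ha hr
  cen := CompR.CnZ.of_wr h.wr
  jarg := by
    intro S hS x hx hTx hce hC h3
    have hw := h.bg
    obtain ⟨a, ha, hax, ha1, -⟩ := lemB h (T := T0 (RG.ZZ Om) (RR Om) S) hx (fun t ht => hw.TS_sq hS (hw.T0_le ht)) hTx
      (fun t ht ht1 r hr => hC t ht ht1 r (by rw [RR_eq]; exact hr))
      (fun t ht ht1 hp => hce t ht ht1 (pc h hS (hw.T0_le ht) hp)) h3
    exact ⟨a, ha, by rw [RR_eq]; exact hax, ha1⟩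

/-- **`AN(s)`, `m ≥ 3`** -/
theorem ANT.of_three (h : WM Om) (cl : OneCl Om) (hn : NilG Om) (tp : CompR.TP (RG.ZZ Om) (RR Om))
    (ncl : ∀ S : Sylow 2 G, AN.NoCl (RG.ZZ Om) (S : Subgroup G)) (three : ∀ S : Sylow 2 G, 3 ≤ (CS Om (S : Subgroup G)).ncard) :
    ANT Om := by
  intro S s hs hs1 K hK hsK
  have hS := isSyl_top_of_sylow S
  rw [TT_eq_TS h S] at hs
  have h1 : Ce s (RR Om (zz K)) := pc h hS hs ⟨K, ⟨hK, rfl⟩, hsK⟩
  have h3 := three S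
  rw [CS_eq_OmZ h S] at h3
  have tpr : AN.TPr (RG.ZZ Om) (RR Om) (S : Subgroup G) := fun s hs hs1 z hz =>
    tp S s hs hs1 z (h.bg.om_mem hS hs hz)
  have h2 : zz K ∈ oP 2 (centralizer {s}) :=
    ANR.an (h.ax cl hn) h.gw (CompR.CnZ.of_wr h.wr) hS (AN.three_of_ncard h3) tpr (ncl S) hs hs1 ⟨K, hK, rfl⟩ h1
  exact ⟨oP 2 (centralizer {s}), oP_le 2 _, le_normalizer_oP 2 _, isPGroup_oP 2 _, h2⟩

end Fin

end Cfsg.Agent.Cit.Nil.RTwoM
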