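import Cfsg.Agent.Cit.Nil.RTwoM.Pairs

/-!
# S1309, (6b), (C3), `r = 2`: `AN(s)`, the local lemmas

* `PCe Om t x` : `t` centralises a member over `x`;
* `fix_lemma` : `1, t, t', t t'` have the same fixed points in `R_x`: one of them centralises a member over `x`;
* **`lemB`** : `T` elementary abelian of order at least 4, commuting with `x`, no `t ∈ T`, `t ≠ 1`, centralises a member
  over `x`, `C_{R_x}(t) ≤ N(T)`. Then there is `a ∈ T ⊓ R_x`, `a ≠ 1`, and `T = {1, a, t, t a}`.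
-/

set_option autoImplicit false
set_option linter.style.haveILetI false
set_option linter.unusedSectionVars false

namespace Cfsg.Agent.Cit.Nil.RTwoM

open Subgroup Cfsg Cfsg.Agent.Cit

open RTwo (Q3 Act)
open RG (WR CP Ov InO)

variable {G : Type*} [Group G] {Om : Set (Subgroup G)} {K L M : Subgroup G} {a b c d g k l r s t t' u v w x y z : G}

/-- `t` centralises a member over `x` -/
def PCe (Om : Set (Subgroup G)) (t x : G) : Prop := ∃ K, Mem Om x K ∧ ∀ k ∈ K, t * k = k * t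

/-- `t` fixes an element of order four of `K` -/
def FxQ (K : Subgroup G) (x t : G) : Prop := ∃ a ∈ K, a * a = x ∧ t * a = a * t

section Fin

variable [Finite G]

/-- conjugation in `R_x` -/
theorem RZ_conj_or (h : WM Om) (hx : InZ Om x) (ha : a ∈ RZ Om x) (hr : r ∈ RZ Om x) :
    r * a * r⁻¹ = a ∨ r * a * r⁻¹ = x * a := by
  obtain ⟨K, hK⟩ := id hx
  obtain ⟨L, hL, hne, -⟩ := hK.other h
  have hi := Inn.of_RZ hx h hr
  have hx2 := hx.z2 h
  obtain ⟨a1, h1, a2, h2, rfl⟩ := (mem_RZ hK hL h hne).1 ha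
  have e : r * (a1 * a2) * r⁻¹ = (r * a1 * r⁻¹) * (r * a2 * r⁻¹) := by group
  have hc : a1 * x = x * a1 := hK.comm_z h h1
  rw [e]
  rcases hi K hK a1 h1 with h3 | h3 <;> rcases hi L hL a2 h2 with h4 | h4 <;> rw [h3, h4]
  · exact Or.inl rfl
  · right
    rw [← mul_assoc, hc, mul_assoc]
  · right
    rw [mul_assoc]
  · left
    calc x * a1 * (x * a2) = x * (a1 * x) * a2 := by group
      _ = (x * x) * (a1 * a2) := by rw [hc]; group
      _ = a1 * a2 := by rw [hx2, one_mul]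

/-- inner elements fix an element of order four -/
theorem fxq_of_inner (h : WM Om) (hK : Mem Om x K) (hi : ∀ k ∈ K, t * k * t⁻¹ = k ∨ t * k * t⁻¹ = x * k) :
    FxQ K x t := by
  obtain ⟨q, hq⟩ := h.exists_q3 hK
  rcases hq.inner_cases hi with h1 | ⟨j, h1⟩
  · exact ⟨q 0, hq.mem 0, hq.sq 0, mul_inv_eq_iff_eq_mul.1 (h1 _ (hq.mem 0))⟩
  · refine ⟨q j, hq.mem j, hq.sq j, ?_⟩
    have h2 := h1 _ (hq.mem j)
    rw [mul_inv_cancel_right] at h2
    exact mul_inv_eq_iff_eq_mul.1 h2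

/-- `t` fixes the member containing an element of order four fixed by `t` -/
theorem cj_eq_of_comm (h : WM Om) (hK : Mem Om x K) (htx : t * x = x * t) (ha : a ∈ K) (haa : a * a = x)
    (hta : t * a = a * t) : cj t K = K := by
  by_contra hne
  have h1 : Mem Om x (cj t K) := hK.cj_comm h htx
  have h2 : a ∈ cj t K := by
    rw [mem_cj]
    have h3 : t⁻¹ * a * t = a := by rw [mul_assoc, ← hta, inv_mul_cancel_left]
    rwa [h3]
  have hx1 := hK.inZ.z1 h
  rcases h1.inf hK h hne h2 ha with h3 | h3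
  · rw [h3, one_mul] at haa
    exact hx1 haa.symm
  · rw [h3, hK.inZ.z2 h] at haa
    exact hx1 haa.symm

/-- an involution fixing `a ∈ K` of order four acts on `K` as `1` or as `a` -/
theorem quat_or (h : WM Om) (hK : Mem Om x K) (htx : t * x = x * t) (htt : t * t = 1) (ha : a ∈ K) (haa : a * a = x)
    (hta : t * a = a * t) : (∀ k ∈ K, t * k = k * t) ∨ ∀ k ∈ K, t * a * k = k * (t * a) := by
  have htK := cj_eq_of_comm h hK htx ha haa hta
  have hx1 := hK.inZ.z1 h
  have hx2 := hK.inZ.z2 h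
  obtain ⟨b, hb, hbb, hab⟩ := hK.exists_nc h ha haa
  have hba : b * a * b⁻¹ = x * a := hK.anti h ha haa hb hbb hab
  have hba' : a * b * a⁻¹ = x * b := hK.anti h hb hbb ha haa (Ne.symm hab)
  have hti : t⁻¹ = t := inv_eq_of_mul_eq_one_right htt
  obtain ⟨c, hc⟩ : ∃ c, c = t * b * t⁻¹ := ⟨_, rfl⟩
  have hcK : c ∈ K := by
    have := conj_mem_cj (g := t) hb
    rwa [htK, ← hc] at this
  have htc : t * c * t⁻¹ = b := by
    rw [hc]
    calc t * (t * b * t⁻¹) * t⁻¹ = (t * t) * b * (t * t)⁻¹ := by group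
      _ = b := by rw [htt]; group
  have hat : t * a * t⁻¹ = a := by rw [hta, mul_inv_cancel_right]
  have hat' : t⁻¹ * a * t = a := by rw [mul_assoc, ← hta, inv_mul_cancel_left]
  have hca : c * a * c⁻¹ = x * a := by
    rw [hc]
    calc t * b * t⁻¹ * a * (t * b * t⁻¹)⁻¹ = t * (b * (t⁻¹ * a * t) * b⁻¹) * t⁻¹ := by group
      _ = t * (x * a) * t⁻¹ := by rw [hat', hba]
      _ = (t * x) * a * t⁻¹ := by group
      _ = x * (t * a * t⁻¹) := by rw [htx]; group
      _ = x * a := by rw [hat]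
  have hbx : b * x = x * b := hK.comm_z h hb
  have hw : b⁻¹ * c ∈ K := mul_mem (inv_mem hb) hcK
  have hwa : a * (b⁻¹ * c) = b⁻¹ * c * a := by
    have h1 : b⁻¹ * c * a * (b⁻¹ * c)⁻¹ = a := by
      calc b⁻¹ * c * a * (b⁻¹ * c)⁻¹ = b⁻¹ * (c * a * c⁻¹) * b := by group
        _ = b⁻¹ * (b * a * b⁻¹) * b := by rw [hca, hba]
        _ = a := by group
    have h2 := mul_inv_eq_iff_eq_mul.1 h1
    exact h2.symm
  have htw : t * (b⁻¹ * c) * t⁻¹ = (b⁻¹ * c)⁻¹ := by
    calc t * (b⁻¹ * c) * t⁻¹ = (t * b * t⁻¹)⁻¹ * (t * c * t⁻¹) := by group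
      _ = (b⁻¹ * c)⁻¹ := by rw [htc, ← hc]; group
  obtain ⟨q, hq, hq0, hq1⟩ := hK.exists_q2 h ha haa hb hbb hab
  have hgen : ∀ H : Subgroup G, a ∈ H → b ∈ H → K ≤ H := fun H h1 h2 =>
    hq.le_of_mem (i := 0) (j := 1) (by decide) (by rw [hq0]; exact h1) (by rw [hq1]; exact h2)
  rcases hK.of_comm h ha haa hw hwa with h1 | h1 | h1 | h1
  · -- `c = b`
    left
    have hcb : c = b := by rw [inv_mul_eq_one] at h1; exact h1.symm
    have h2 := hgen (centralizer {t}) (mem_centralizer_singleton_iff.2 hta.symm) (mem_centralizer_singleton_iff.2 (by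
      have h3 : t * b * t⁻¹ = b := by rw [← hc, hcb]
      exact (mul_inv_eq_iff_eq_mul.1 h3).symm))
    exact fun k hk => (mem_centralizer_singleton_iff.1 (h2 hk)).symm
  · right
    have hcb : c = b * x := by rw [← h1, mul_inv_cancel_left]
    have h3 : t * a * b * (t * a)⁻¹ = b := by
      calc t * a * b * (t * a)⁻¹ = t * (a * b * a⁻¹) * t⁻¹ := by group
        _ = (t * x) * b * t⁻¹ := by rw [hba']; group
        _ = x * (t * b * t⁻¹) := by rw [htx]; group
        _ = x * (b * x) := by rw [← hc, hcb]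
        _ = (x * x) * b := by rw [hbx]; group
        _ = b := by rw [hx2, one_mul]
    have h2 := hgen (centralizer {t * a}) (mem_centralizer_singleton_iff.2 (by
      rw [← mul_assoc, ← hta])) (mem_centralizer_singleton_iff.2 (mul_inv_eq_iff_eq_mul.1 h3).symm)
    exact fun k hk => (mem_centralizer_singleton_iff.1 (h2 hk)).symm
  · exfalso
    rw [h1, hat] at htw
    apply hx1
    rw [← haa]
    nth_rewrite 1 [htw]
    exact inv_mul_cancel a
  · exfalso
    have h2 : t * (x * a) * t⁻¹ = x * a := by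
      calc t * (x * a) * t⁻¹ = (t * x) * a * t⁻¹ := by group
        _ = x * (t * a * t⁻¹) := by rw [htx]; group
        _ = x * a := by rw [hat]
    rw [h1, h2] at htw
    have h3 : (x * a) * (x * a) = 1 := by
      nth_rewrite 1 [htw]
      exact inv_mul_cancel _
    apply hx1
    have hax : a * x = x * a := hK.comm_z h ha
    rw [← haa]
    calc a * a = (x * x) * (a * a) := by rw [hx2, one_mul]
      _ = x * (x * a) * a := by group
      _ = x * (a * x) * a := by rw [hax]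
      _ = (x * a) * (x * a) := by group
      _ = 1 := h3

theorem perm_three : ∀ σ τ : Equiv.Perm (Fin 3), σ * σ = 1 → τ * τ = 1 → σ * τ = τ * σ →
    σ = 1 ∨ τ = 1 ∨ σ * τ = 1 := by decide

/-- commuting involutions normalising `K` -/
theorem exists_fxq (h : WM Om) (hK : Mem Om x K) (ht : cj t K = K) (ht' : cj t' K = K) (htt : t * t = 1)
    (htt' : t' * t' = 1) (hc : t * t' = t' * t) : FxQ K x t ∨ FxQ K x t' ∨ FxQ K x (t * t') := by
  have htx := hK.of_cj h ht
  have htx' := hK.of_cj h ht'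
  obtain ⟨q, hq⟩ := h.exists_q3 hK
  obtain ⟨σ, hσ⟩ := hq.exists_act hq ht htx
  obtain ⟨τ, hτ⟩ := hq.exists_act hq ht' htx'
  have h1 : σ * σ = 1 := by
    have h2 := hσ.comp hq.z2 hσ htx
    rw [htt] at h2
    exact h2.unique hq (Act.one q x)
  have h2 : τ * τ = 1 := by
    have h2 := hτ.comp hq.z2 hτ htx'
    rw [htt'] at h2
    exact h2.unique hq (Act.one q x)
  have h4 := hσ.comp hq.z2 hτ htx'
  have h3 := hτ.comp hq.z2 hσ htx
  have h5 : σ * τ = τ * σ := by
    rw [← hc] at h4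
    exact h3.unique hq h4
  have hm : (t * t') * x = x * (t * t') := by
    rw [mul_assoc, htx', ← mul_assoc, htx, mul_assoc]
  rcases perm_three σ τ h1 h2 h5 with h6 | h6 | h6
  · subst h6; exact Or.inl (fxq_of_inner h hK (hσ.inner hq htx))
  · subst h6; exact Or.inr (Or.inl (fxq_of_inner h hK (hτ.inner hq htx')))
  · rw [h6] at h3
    exact Or.inr (Or.inr (fxq_of_inner h hK (h3.inner hq hm)))

/-- `v` fixes the fixed points of the swap `t` -/
theorem fxq_of_swap (h : WM Om) (hK : Mem Om x K) (hL : Mem Om x L) (hne : K ≠ L) (ht : cj t K = L) (htt : t * t = 1)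
    (hv : cj v K = K) (hfix : ∀ r ∈ RZ Om x, t * r = r * t → v * r = r * v) : FxQ K x v := by
  have hvL : cj v L = L := by
    have hvx := hK.of_cj h hv
    rcases hK.cases hL h hne (hL.cj_comm h hvx) with h1 | h1
    · exfalso
      apply hne
      rw [← hv] at h1
      exact (cj_inj.1 h1).symm
    · exact h1
  refine fxq_of_inner h hK fun k hk => ?_
  obtain ⟨k', hk'⟩ : ∃ k', k' = t * k * t⁻¹ := ⟨_, rfl⟩
  have hk'L : k' ∈ L := by
    rw [hk', ← ht]
    exact conj_mem_cj hk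
  have hti : t⁻¹ = t := inv_eq_of_mul_eq_one_right htt
  have hcomm : k * k' = k' * k := hK.comm hL h hne hk hk'L
  have h1 : t * (k * k') = k * k' * t := by
    have h2 : t * k' * t⁻¹ = k := by
      rw [hk']
      calc t * (t * k * t⁻¹) * t⁻¹ = (t * t) * k * (t * t)⁻¹ := by group
        _ = k := by rw [htt]; group
    have h3 : t * (k * k') * t⁻¹ = k * k' := by
      calc t * (k * k') * t⁻¹ = (t * k * t⁻¹) * (t * k' * t⁻¹) := by group
        _ = k' * k := by rw [h2, ← hk']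
        _ = k * k' := hcomm.symm
    exact mul_inv_eq_iff_eq_mul.1 h3
  have h2 := hfix _ (mul_mem (hK.le_RZ hk) (hL.le_RZ hk'L)) h1
  have h3 : (v * k * v⁻¹) * (v * k' * v⁻¹) = k * k' := by
    calc (v * k * v⁻¹) * (v * k' * v⁻¹) = v * (k * k') * v⁻¹ := by group
      _ = k * k' := by rw [h2, mul_inv_cancel_right]
  have h4 : v * k * v⁻¹ ∈ K := by
    have := conj_mem_cj (g := v) hk
    rwa [hv] at this
  have h5 : v * k' * v⁻¹ ∈ L := by
    have := conj_mem_cj (g := v) hk'L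
    rwa [hvL] at this
  have h6 : k⁻¹ * (v * k * v⁻¹) = k' * (v * k' * v⁻¹)⁻¹ := by
    rw [inv_mul_eq_iff_eq_mul, ← mul_assoc, ← h3]
    group
  have h7 : k⁻¹ * (v * k * v⁻¹) ∈ K := mul_mem (inv_mem hk) h4
  have h8 : k⁻¹ * (v * k * v⁻¹) ∈ L := by rw [h6]; exact mul_mem hk'L (inv_mem h5)
  rcases hK.inf hL h hne h7 h8 with h9 | h9
  · left; rw [inv_mul_eq_one] at h9; exact h9.symm
  · right
    rw [inv_mul_eq_iff_eq_mul] at h9
    rw [h9, hK.comm_z h hk]

/-- a fixed element of order four of one of `t`, `t'`, `t t'` is fixed by all of them -/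
theorem pce_of_fix (h : WM Om) (hK : Mem Om x K) (htt : t * t = 1) (htt' : t' * t' = 1)
    (htx : t * x = x * t) (htx' : t' * x = x * t') (ha : a ∈ K) (haa : a * a = x)
    (hta : t * a = a * t) (hta' : t' * a = a * t') : PCe Om t x ∨ PCe Om t' x ∨ PCe Om (t * t') x := by
  rcases quat_or h hK htx htt ha haa hta with h1 | h1
  · exact Or.inl ⟨K, hK, h1⟩
  rcases quat_or h hK htx' htt' ha haa hta' with h2 | h2
  · exact Or.inr (Or.inl ⟨K, hK, h2⟩)
  refine Or.inr (Or.inr ⟨K, hK, fun k hk => ?_⟩)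
  have hkx : k * x = x * k := hK.comm_z h hk
  have hx2 := hK.inZ.z2 h
  have e1 : t * a * (t' * a) = t * t' * x := by
    calc t * a * (t' * a) = t * (a * t') * a := by group
      _ = t * (t' * a) * a := by rw [hta']
      _ = t * t' * (a * a) := by group
      _ = t * t' * x := by rw [haa]
  have e2 : (t * a * (t' * a)) * k = k * (t * a * (t' * a)) := by
    calc (t * a * (t' * a)) * k = t * a * (t' * a * k) := by group
      _ = (t * a * k) * (t' * a) := by rw [h2 k hk]; group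
      _ = k * (t * a * (t' * a)) := by rw [h1 k hk]; group
  rw [e1] at e2
  have e3 : t * t' * x * k = t * t' * k * x := by rw [mul_assoc, ← hkx]; group
  rw [e3, ← mul_assoc k] at e2
  exact mul_right_cancel e2

/-- **the fixed point lemma** -/
theorem fix_lemma (h : WM Om) (hx : InZ Om x) (htt : t * t = 1) (htt' : t' * t' = 1) (hc : t * t' = t' * t)
    (htx : t * x = x * t) (htx' : t' * x = x * t')
    (h1 : ∀ r ∈ RZ Om x, t * r = r * t → t' * r = r * t') (h2 : ∀ r ∈ RZ Om x, t' * r = r * t' → t * r = r * t)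
    (h3 : ∀ r ∈ RZ Om x, t * t' * r = r * (t * t') → t * r = r * t) :
    PCe Om t x ∨ PCe Om t' x ∨ PCe Om (t * t') x := by
  obtain ⟨K, hK⟩ := id hx
  obtain ⟨L, hL, hne, hall⟩ := hK.other h
  -- a fixed element of order four
  have key : FxQ K x t ∨ FxQ K x t' ∨ FxQ K x (t * t') → PCe Om t x ∨ PCe Om t' x ∨ PCe Om (t * t') x := by
    rintro (⟨a, ha, haa, h4⟩ | ⟨a, ha, haa, h4⟩ | ⟨a, ha, haa, h4⟩)
    · exact pce_of_fix h hK htt htt' htx htx' ha haa h4 (h1 _ (hK.le_RZ ha) h4)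
    · exact pce_of_fix h hK htt htt' htx htx' ha haa (h2 _ (hK.le_RZ ha) h4) h4
    · have h5 := h3 _ (hK.le_RZ ha) h4
      exact pce_of_fix h hK htt htt' htx htx' ha haa h5 (h1 _ (hK.le_RZ ha) h5)
  have hsw : ∀ v, v * x = x * v → cj v K = K ∨ cj v K = L := fun v hv => hall _ (hK.cj_comm h hv)
  have hswL : ∀ v, v * x = x * v → cj v K = L → v * v = 1 → cj v L = K := by
    intro v hv h4 h5
    rw [← h4, ← cj_mul, h5, cj_one]
  apply key
  rcases hsw t htx with h4 | h4
  · rcases hsw t' htx' with h5 | h5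
    · exact exists_fxq h hK h4 h5 htt htt' hc
    · left
      exact fxq_of_swap h hK hL hne h5 htt' h4 fun r hr h6 => h2 r hr h6
  · rcases hsw t' htx' with h5 | h5
    · right; left
      exact fxq_of_swap h hK hL hne h4 htt h5 fun r hr h6 => h1 r hr h6
    · right; right
      refine fxq_of_swap h hK hL hne h4 htt ?_ fun r hr h6 => ?_
      · rw [cj_mul, h5, hswL t htx h4 htt]
      · have h7 := h1 r hr h6
        rw [mul_assoc, h7, ← mul_assoc, h6, mul_assoc]

/-- **LEMMA B** -/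
theorem lemB (h : WM Om) (hx : InZ Om x) {T : Subgroup G} (hTT : ∀ t ∈ T, t * t = 1) (hTx : ∀ t ∈ T, t * x = x * t)
    (hC : ∀ t ∈ T, t ≠ 1 → ∀ r ∈ RZ Om x, r * t = t * r → ∀ s ∈ T, r * s * r⁻¹ ∈ T)
    (hP : ∀ t ∈ T, t ≠ 1 → ¬ PCe Om t x) (h3 : ∃ t ∈ T, ∃ t' ∈ T, t ≠ 1 ∧ t' ≠ 1 ∧ t ≠ t') :
    ∃ a ∈ T, a ∈ RZ Om x ∧ a ≠ 1 ∧ a ≠ x ∧ (∀ r ∈ RZ Om x, (∀ s ∈ T, r * s * r⁻¹ ∈ T) → r * a = a * r) ∧
      ∀ t ∈ T, ∀ t' ∈ T, t ≠ 1 → t ≠ a → t' ≠ 1 → t' ≠ a → t ≠ t' → t * t' = a := by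
  have hcom : ∀ s ∈ T, ∀ t ∈ T, s * t = t * s := by
    intro s hs t ht
    have h4 := hTT _ (mul_mem hs ht)
    have hsi : s⁻¹ = s := inv_eq_of_mul_eq_one_right (hTT s hs)
    have hti : t⁻¹ = t := inv_eq_of_mul_eq_one_right (hTT t ht)
    calc s * t = (s * t)⁻¹ := (inv_eq_of_mul_eq_one_right h4).symm
      _ = t * s := by rw [mul_inv_rev, hsi, hti]
  obtain ⟨K, hK⟩ := id hx
  obtain ⟨L, hL, hne, hall⟩ := hK.other h
  have hx1 := hx.z1 h
  have hx2 := hx.z2 h
  have hxT : x ∉ T := fun h4 => hP x h4 hx1 ⟨K, hK, fun k hk => (hK.comm_z h hk).symm⟩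
  -- elements of `R_x` normalising `T` centralise `T ⊓ R_x`
  have cl1 : ∀ a ∈ T, a ∈ RZ Om x → ∀ r ∈ RZ Om x, (∀ s ∈ T, r * s * r⁻¹ ∈ T) → r * a = a * r := by
    intro a ha hax r hr hrT
    rcases RZ_conj_or h hx hax hr with h4 | h4
    · exact mul_inv_eq_iff_eq_mul.1 h4
    · exfalso
      apply hxT
      have h5 := mul_mem (hrT a ha) (inv_mem ha)
      rwa [h4, mul_inv_cancel_right] at h5
  have hnor : ∀ t ∈ T, ∀ r ∈ RZ Om x, t * r * t⁻¹ ∈ RZ Om x := fun t ht r hr => RZ_conj_comm h (hTx t ht) hr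
  have hcr : ∀ t ∈ T, ∀ r ∈ RZ Om x, (∀ s ∈ T, r * s * r⁻¹ ∈ T) → r * t * r⁻¹ * t⁻¹ ∈ T ∧
      r * t * r⁻¹ * t⁻¹ ∈ RZ Om x := by
    intro t ht r hr hrT
    refine ⟨mul_mem (hrT t ht) (inv_mem ht), ?_⟩
    have e : r * t * r⁻¹ * t⁻¹ = r * (t * r⁻¹ * t⁻¹) := by group
    rw [e]
    exact mul_mem hr (hnor t ht _ (inv_mem hr))
  by_cases hA : ∃ a ∈ T, a ∈ RZ Om x ∧ a ≠ 1
  swap
  · -- `T ⊓ R_x = 1`
    exfalso
    push Not at hA
    have cl2 : ∀ t ∈ T, t ≠ 1 → ∀ t' ∈ T, ∀ r ∈ RZ Om x, t * r = r * t → t' * r = r * t' := by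
      intro t ht ht1 t' ht' r hr htr
      obtain ⟨h4, h5⟩ := hcr t' ht' r hr (hC t ht ht1 r hr htr.symm)
      have h6 := hA _ h4 h5
      rw [mul_inv_eq_one] at h6
      exact (mul_inv_eq_iff_eq_mul.1 h6).symm
    obtain ⟨t, ht, t', ht', ht1, ht1', htt'⟩ := h3
    have hm1 : t * t' ≠ 1 := by
      intro h4
      apply htt'
      rw [mul_eq_one_iff_eq_inv] at h4
      rw [h4, inv_eq_of_mul_eq_one_right (hTT t' ht')]
    rcases fix_lemma h hx (hTT t ht) (hTT t' ht') (hcom t ht t' ht') (hTx t ht) (hTx t' ht')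
      (fun r hr h4 => cl2 t ht ht1 t' ht' r hr h4) (fun r hr h4 => cl2 t' ht' ht1' t ht r hr h4)
      (fun r hr h4 => cl2 _ (mul_mem ht ht') hm1 t ht r hr h4) with h4 | h4 | h4
    · exact hP t ht ht1 h4
    · exact hP t' ht' ht1' h4
    · exact hP _ (mul_mem ht ht') hm1 h4
  obtain ⟨a, ha, haR, ha1⟩ := hA
  have hax : a ≠ x := fun h4 => hxT (h4 ▸ ha)
  have haa := hTT a ha
  -- `a = u v`
  obtain ⟨u, v, hu, hv, huv, huu, hvv⟩ : ∃ u v, u ∈ K ∧ v ∈ L ∧ a = u * v ∧ u * u = x ∧ v * v = x := by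
    obtain ⟨u, hu, v, hv, rfl⟩ := (mem_RZ hK hL h hne).1 haR
    have huv := hK.comm hL h hne hu hv
    have e1 : (u * v) * (u * v) = (u * u) * (v * v) := by
      calc (u * v) * (u * v) = u * (v * u) * v := by group
        _ = (u * u) * (v * v) := by rw [← huv]; group
    rcases hK.sq_cases h hu with h4 | h4 | h4 <;> rcases hL.sq_cases h hv with h5 | h5 | h5
    · exact absurd (by rw [h4, h5, one_mul]) ha1
    · exact absurd (by rw [h4, h5, one_mul]) hax
    · exfalso; rw [e1, h4, h5] at haa; exact hx1 (by simpa using haa)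
    · exact absurd (by rw [h4, h5, mul_one]) hax
    · exact absurd (by rw [h4, h5, hx2]) ha1
    · exfalso; rw [e1, h4, h5, hx2, one_mul] at haa; exact hx1 haa
    · exfalso; rw [e1, h4, h5] at haa; exact hx1 (by simpa using haa)
    · exfalso; rw [e1, h4, h5, hx2, mul_one] at haa; exact hx1 haa
    · exact ⟨u, v, hu, hv, rfl, h4, h5⟩
  have huv' : u * v = v * u := hK.comm hL h hne hu hv
  have hCa : ∀ r ∈ RZ Om x, r * a = a * r → ∀ s ∈ T, r * s * r⁻¹ ∈ T := fun r hr h4 => hC a ha ha1 r hr h4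
  have hua : u * a = a * u := by rw [huv, mul_assoc, ← huv']
  have hva : v * a = a * v := by rw [huv, ← mul_assoc, ← huv', mul_assoc]
  -- `T ⊓ R_x = {1, a}`
  have cl3 : ∀ c ∈ T, c ∈ RZ Om x → c = 1 ∨ c = a := by
    intro c hc hcR
    obtain ⟨c1, hc1, c2, hc2, rfl⟩ := (mem_RZ hK hL h hne).1 hcR
    have hc12 := hK.comm hL h hne hc1 hc2
    have k1 := cl1 _ hc hcR u (hK.le_RZ hu) (hCa u (hK.le_RZ hu) hua)
    have k2 := cl1 _ hc hcR v (hL.le_RZ hv) (hCa v (hL.le_RZ hv) hva)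
    have huc1 : u * c1 = c1 * u := by
      have e1 : u * (c1 * c2) = u * c1 * c2 := by group
      have e2 : c1 * c2 * u = c1 * u * c2 := by
        rw [mul_assoc, ← hK.comm hL h hne hu hc2, mul_assoc]
      rw [e1, e2] at k1
      exact mul_right_cancel k1
    have hvc2 : v * c2 = c2 * v := by
      have e1 : v * (c1 * c2) = c1 * (v * c2) := by
        rw [← mul_assoc, ← hK.comm hL h hne hc1 hv, mul_assoc]
      have e2 : c1 * c2 * v = c1 * (c2 * v) := by group
      rw [e1, e2] at k2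
      exact mul_left_cancel k2
    -- the elements `w w'`
    obtain ⟨w, hw, hww, huw⟩ := hK.exists_nc h hu huu
    obtain ⟨w', hw', hww', hvw⟩ := hL.exists_nc h hv hvv
    have a1 : w * u * w⁻¹ = x * u := hK.anti h hu huu hw hww huw
    have a2 : w' * v * w'⁻¹ = x * v := hL.anti h hv hvv hw' hww' hvw
    have hcw : ∀ k ∈ K, ∀ l ∈ L, w * w' * (k * l) * (w * w')⁻¹ = (w * k * w⁻¹) * (w' * l * w'⁻¹) := by
      intro k hk l hl
      have e1 := hK.comm hL h hne (mul_mem (mul_mem hw hk) (inv_mem hw)) hw'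
      have e2 := hK.comm hL h hne hw hw'
      have e3 : w * w' * (k * l) * (w * w')⁻¹ = w * (w' * k) * l * w'⁻¹ * w⁻¹ := by group
      have e4 : w' * k = k * w' := (hK.comm hL h hne hk hw').symm
      have e5 : (w' * l * w'⁻¹) * w⁻¹ = w⁻¹ * (w' * l * w'⁻¹) :=
        (hK.comm hL h hne (inv_mem hw) (mul_mem (mul_mem hw' hl) (inv_mem hw'))).symm
      rw [e3, e4]
      calc w * (k * w') * l * w'⁻¹ * w⁻¹ = w * k * ((w' * l * w'⁻¹) * w⁻¹) := by group
        _ = w * k * (w⁻¹ * (w' * l * w'⁻¹)) := by rw [e5]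
        _ = _ := by group
    have hwa : (w * w') * a = a * (w * w') := by
      have e1 := hcw u hu v hv
      rw [a1, a2, ← huv] at e1
      have e2 : x * u * (x * v) = a := by
        rw [huv]
        calc x * u * (x * v) = x * (u * x) * v := by group
          _ = (x * x) * (u * v) := by rw [hK.comm_z h hu]; group
          _ = u * v := by rw [hx2, one_mul]
      rw [e2] at e1
      exact mul_inv_eq_iff_eq_mul.1 e1
    have hwR : w * w' ∈ RZ Om x := mul_mem (hK.le_RZ hw) (hL.le_RZ hw')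
    have k3 := cl1 _ hc hcR _ hwR (hCa _ hwR hwa)
    have k4 : (w * c1 * w⁻¹) * (w' * c2 * w'⁻¹) = c1 * c2 := by
      rw [← hcw c1 hc1 c2 hc2]
      exact mul_inv_eq_iff_eq_mul.2 k3
    have hxc : ∀ k ∈ K, k * x = x * k := fun k hk => hK.comm_z h hk
    have fw1 : w * (x * u) * w⁻¹ = u := by
      calc w * (x * u) * w⁻¹ = (w * x) * u * w⁻¹ := by group
        _ = x * (w * u * w⁻¹) := by rw [hxc w hw]; group
        _ = u := by rw [a1, ← mul_assoc, hx2, one_mul]
    have fw2 : w' * (x * v) * w'⁻¹ = v := by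
      calc w' * (x * v) * w'⁻¹ = (w' * x) * v * w'⁻¹ := by group
        _ = x * (w' * v * w'⁻¹) := by rw [hL.comm_z h hw']; group
        _ = v := by rw [a2, ← mul_assoc, hx2, one_mul]
    have fx1 : w * x * w⁻¹ = x := by rw [hxc w hw, mul_inv_cancel_right]
    have fx2 : w' * x * w'⁻¹ = x := by rw [hL.comm_z h hw', mul_inv_cancel_right]
    have f11 : w * 1 * w⁻¹ = 1 := by group
    have f12 : w' * 1 * w'⁻¹ = 1 := by group
    have nx : ∀ y : G, x * y = y → False := fun y hy => hx1 (mul_eq_right.1 hy)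
    have nx' : ∀ y : G, y = x * y → False := fun y hy => hx1 (mul_eq_right.1 hy.symm)
    have hxa : x * a ∉ T := fun h4 => hxT (by
      have := mul_mem h4 (inv_mem ha)
      rwa [mul_inv_cancel_right] at this)
    have hux : u * x = x * u := hxc u hu
    rcases hK.of_comm h hu huu hc1 huc1 with h4 | h4 | h4 | h4 <;>
      rcases hL.of_comm h hv hvv hc2 hvc2 with h5 | h5 | h5 | h5 <;> rw [h4, h5] at k4 hc ⊢
    · left; exact one_mul _
    · rw [one_mul] at hc; exact absurd hc hxT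
    · exfalso; rw [f11, a2, one_mul, one_mul] at k4; exact nx _ k4
    · exfalso; rw [f11, fw2, one_mul, one_mul] at k4; exact nx' _ k4
    · rw [mul_one] at hc; exact absurd hc hxT
    · left; exact hx2
    · exfalso; rw [fx1, a2] at k4; exact nx _ (mul_left_cancel k4)
    · exfalso; rw [fx1, fw2] at k4; exact nx' _ (mul_left_cancel k4)
    · exfalso; rw [a1, f12, mul_one, mul_one] at k4; exact nx _ k4
    · exfalso; rw [a1, fx2] at k4; exact nx _ (mul_right_cancel k4)
    · right; exact huv.symm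
    · exfalso; apply hxa; rw [huv]
      have e : x * (u * v) = u * (x * v) := by rw [← mul_assoc, ← hux, mul_assoc]
      rwa [e]
    · exfalso; rw [fw1, f12, mul_one, mul_one] at k4; exact nx' _ k4
    · exfalso; rw [fw1, fx2] at k4; exact nx' _ (mul_right_cancel k4)
    · exfalso; apply hxa; rw [huv]; rwa [mul_assoc] at hc
    · right
      calc x * u * (x * v) = x * (u * x) * v := by group
        _ = (x * x) * (u * v) := by rw [hux]; group
        _ = a := by rw [hx2, one_mul, huv]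
  -- the elements of `T` different from `1`, `a` are swaps
  have cl4 : ∀ t ∈ T, t ≠ 1 → t ≠ a → cj t K ≠ K := by
    intro t ht ht1 hta htK
    have huR := hK.le_RZ hu
    obtain ⟨h4, h5⟩ := hcr t ht u huR (hCa u huR hua)
    rcases cl3 _ h4 h5 with h6 | h6
    · have h7 : t * u = u * t := by
        rw [mul_inv_eq_one] at h6
        exact (mul_inv_eq_iff_eq_mul.1 h6).symm
      rcases quat_or h hK (hTx t ht) (hTT t ht) hu huu h7 with h8 | h8
      · exact hP t ht ht1 ⟨K, hK, h8⟩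
      · refine hP (t * a) (mul_mem ht ha) (fun h9 => hta ?_) ⟨K, hK, fun k hk => ?_⟩
        · rw [mul_eq_one_iff_eq_inv] at h9
          rw [h9, inv_eq_of_mul_eq_one_right haa]
        · rw [huv]
          calc t * (u * v) * k = t * u * (v * k) := by group
            _ = (t * u * k) * v := by rw [← hK.comm hL h hne hk hv]; group
            _ = k * (t * (u * v)) := by rw [h8 k hk]; group
    · -- `t u⁻¹ t⁻¹ = v`
      have h7 : t * u⁻¹ * t⁻¹ = v := by
        have e : u * t * u⁻¹ * t⁻¹ = u * (t * u⁻¹ * t⁻¹) := by group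
        rw [e, huv] at h6
        exact mul_left_cancel h6
      have h8 : v ∈ K := by
        rw [← h7]
        have := conj_mem_cj (g := t) (inv_mem hu)
        rwa [htK] at this
      rcases hK.inf hL h hne h8 hv with h9 | h9
      · rw [h9, one_mul] at hvv; exact hx1 hvv.symm
      · rw [h9, hx2] at hvv; exact hx1 hvv.symm
  refine ⟨a, ha, haR, ha1, hax, cl1 a ha haR, fun t ht t' ht' h4 h5 h6 h7 h8 => ?_⟩
  by_contra h9
  have hm1 : t * t' ≠ 1 := by
    intro h10
    apply h8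
    rw [mul_eq_one_iff_eq_inv] at h10
    rw [h10, inv_eq_of_mul_eq_one_right (hTT t' ht')]
  have s1 : cj t K = L := (hall _ (hK.cj_comm h (hTx t ht))).resolve_left (cl4 t ht h4 h5)
  have s2 : cj t' K = L := (hall _ (hK.cj_comm h (hTx t' ht'))).resolve_left (cl4 t' ht' h6 h7)
  refine cl4 _ (mul_mem ht ht') hm1 h9 ?_
  rw [cj_mul, s2, ← s1, ← cj_mul, hTT t ht, cj_one]

end Fin

end Cfsg.Agent.Cit.Nil.RTwoM
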