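import Cfsg.Agent.Cit.Nil.AN.Cls
import Cfsg.Agent.Cit.Nil.CompR.World

/-!
# S1309 (6b), nil world, any `r`: the closure `AN(s)` (helper472, bb R18 #13772): steps (0), (1)

`BG Z K` : `Z` is the set of the involutions of the members, `K z = R_z` the group generated by the members over `z`.
`AG Z K` : one class, all C-pairs are nil. (`Nil/AN/{Base,Cls}.lean` for `r = 1`.)

* `AG.exists_fr` : a class of `C(s)`, `s ∈ T_S`, which is not nil gives a frame `Fr Z K S KK`.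
-/

set_option autoImplicit false
set_option linter.unusedSectionVars false

namespace Cfsg.Agent.Cit.Nil.ANR

open Subgroup Cfsg.Agent.Cit Cfsg.Agent.StdEven.Syl Cfsg.Agent.OddOrderLocal.NilParts
open Cfsg.Agent.Cit.Nil.AN (Cm Ce Om St Cl Gp OneC OmZ T0 TS cl_refl cl_sub cl_step cl_cm cl_symm cl_trans cl_eq le_Gp
  Gp_le Gp_ce)

variable {G : Type*} [Group G]

/-- the world, any `r` -/
structure BG (Z : Set G) (K : G → Subgroup G) : Prop where
  sq : ∀ z ∈ Z, z * z = 1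
  ne : ∀ z ∈ Z, z ≠ 1
  mem : ∀ z ∈ Z, z ∈ K z
  tw : ∀ z ∈ Z, IsPGroup 2 (K z)
  cself : ∀ z ∈ Z, Ce z (K z)
  nab : ∀ z ∈ Z, ¬ Cm (K z) (K z)
  conjZ : ∀ z ∈ Z, ∀ g : G, g * z * g⁻¹ ∈ Z
  conjK : ∀ z ∈ Z, ∀ g : G, K (g * z * g⁻¹) = cj g (K z)
  csymm : ∀ z ∈ Z, ∀ u ∈ Z, Ce u (K z) → z ≠ u → Cm (K z) (K u)
  com : ∀ z ∈ Z, ∀ u ∈ Z, z ≠ u → ∀ P : Subgroup G, IsPGroup 2 P → K z ≤ P → K u ≤ P → Cm (K z) (K u)

/-- the nil world -/
structure AG (Z : Set G) (K : G → Subgroup G) : Prop extends BG Z K where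
  cls : ∀ z ∈ Z, ∀ u ∈ Z, ∃ g : G, g * z * g⁻¹ = u
  nil : ∀ z ∈ Z, ∀ u ∈ Z, Cm (K z) (K u) → u ∈ oP 2 (centralizer {z})

theorem BG.of_gw {Z : Set G} {K : G → Subgroup G} (w : CompR.GW Z K) : BG Z K where
  sq := w.sq
  ne := w.ne
  mem := w.mem
  tw := fun _ hz => w.two hz
  cself := fun _ hz _ hk => (w.cent hz hk).symm
  nab := fun _ hz => w.nab hz
  conjZ := w.conjZ
  conjK := w.conjK
  csymm := fun _ hz _ hu hc hne => (w.csymm hz hu hne hc).2
  com := fun _ hz _ hu hne P hP h1 h2 => (w.com P hP hz hu h1 h2 hne).2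

variable {Z : Set G} {K : G → Subgroup G}

namespace BG

variable (w : BG Z K)

include w

theorem inv {z : G} (hz : z ∈ Z) : z⁻¹ = z := inv_eq_of_mul_eq_one_right (w.sq z hz)

theorem ce_self {z : G} (hz : z ∈ Z) : Ce z (K z) := w.cself z hz

theorem K_le {z : G} (hz : z ∈ Z) : K z ≤ centralizer {z} := fun k hk =>
  mem_centralizer_singleton_iff.2 (w.ce_self hz k hk).symm

theorem K_nor {z g : G} (hz : z ∈ Z) (hg : g * z = z * g) : cj g (K z) = K z := by
  have h1 := w.conjK z hz g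
  have h2 : g * z * g⁻¹ = z := by rw [hg]; group
  rw [h2] at h1
  exact h1.symm

theorem two {z : G} (hz : z ∈ Z) : IsPGroup 2 (K z) := w.tw z hz

/-- a member is not commutative -/
theorem not_cm_self {z : G} (hz : z ∈ Z) : ¬ Cm (K z) (K z) := w.nab z hz

theorem ne_of_cm {z u : G} (hz : z ∈ Z) (h : Cm (K z) (K u)) : z ≠ u := by
  rintro rfl
  exact w.not_cm_self hz h

theorem cm_conj {z u : G} (hz : z ∈ Z) (hu : u ∈ Z) (g : G) (h : Cm (K z) (K u)) :
    Cm (K (g * z * g⁻¹)) (K (g * u * g⁻¹)) := by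
  rw [w.conjK z hz, w.conjK u hu]
  exact h.cj g

theorem cm_conj_iff {z u : G} (hz : z ∈ Z) (hu : u ∈ Z) (g : G) :
    Cm (K (g * z * g⁻¹)) (K (g * u * g⁻¹)) ↔ Cm (K z) (K u) := by
  refine ⟨fun h => ?_, w.cm_conj hz hu g⟩
  have h1 := w.cm_conj (w.conjZ z hz g) (w.conjZ u hu g) g⁻¹ h
  have e : ∀ x : G, g⁻¹ * (g * x * g⁻¹) * g⁻¹⁻¹ = x := fun x => by group
  rwa [e, e] at h1

theorem cm_iff {z u : G} (hz : z ∈ Z) (hu : u ∈ Z) (hne : z ≠ u) : Cm (K z) (K u) ↔ Ce u (K z) :=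
  ⟨fun h k hk => (h k hk u (w.mem u hu)).symm, fun h => w.csymm z hz u hu h hne⟩

theorem comm_of_cm {z u : G} (hz : z ∈ Z) (hu : u ∈ Z) (h : Cm (K z) (K u)) : z * u = u * z :=
  h z (w.mem z hz) u (w.mem u hu)

/-! ### The members of a Sylow subgroup -/

variable [Finite G] {S : Subgroup G} (hS : IsSyl S ⊤)

theorem om_conj {z : G} (hz : z ∈ OmZ Z K S) (g : G) : g * z * g⁻¹ ∈ OmZ Z K (cj g S) :=
  ⟨w.conjZ z hz.1 g, by rw [w.conjK z hz.1]; exact cj_mono g hz.2⟩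

theorem om_cm {z u : G} (hz : z ∈ OmZ Z K S) (hu : u ∈ OmZ Z K S) (hne : z ≠ u) (hS2 : IsPGroup 2 S) :
    Cm (K z) (K u) := w.com z hz.1 u hu.1 hne S hS2 hz.2 hu.2

include hS

/-- a 2-group containing the members of `S` contains no others -/
theorem om_eq {P : Subgroup G} (hP : IsPGroup 2 P) (h : ∀ z ∈ OmZ Z K S, K z ≤ P) {u : G} (hu : u ∈ Z)
    (huP : K u ≤ P) : u ∈ OmZ Z K S := by
  obtain ⟨n, -, hn⟩ := hS.exists_conj hP le_top
  -- `P ≤ S' = cj n⁻¹ S`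
  have hPS : P ≤ cj n⁻¹ S := fun p hp => by
    rw [mem_cj, inv_inv]
    exact hn p hp
  have h1 : OmZ Z K S ⊆ (fun x => n⁻¹ * x * n) '' OmZ Z K S := by
    intro z hz
    have h2 : K z ≤ cj n⁻¹ S := (h z hz).trans hPS
    refine ⟨n * z * n⁻¹, ⟨w.conjZ z hz.1 n, ?_⟩, by group⟩
    rw [w.conjK z hz.1]
    have := cj_mono n h2
    rwa [cj_cj_inv] at this
  have hfin : (OmZ Z K S).Finite := Set.toFinite _
  have h2 : OmZ Z K S = (fun x => n⁻¹ * x * n) '' OmZ Z K S :=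
    Set.eq_of_subset_of_ncard_le h1 (Set.ncard_image_le hfin) (hfin.image _)
  rw [h2]
  refine ⟨n * u * n⁻¹, ⟨w.conjZ u hu n, ?_⟩, by group⟩
  rw [w.conjK u hu]
  have := cj_mono n (huP.trans hPS)
  rwa [cj_cj_inv] at this

/-- elements of 2-groups containing the members of `S` permute them -/
theorem om_perm {P : Subgroup G} (hP : IsPGroup 2 P) (h : ∀ z ∈ OmZ Z K S, K z ≤ P) {p : G} (hp : p ∈ P) {z : G}
    (hz : z ∈ OmZ Z K S) : p * z * p⁻¹ ∈ OmZ Z K S := by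
  apply w.om_eq hS hP h (w.conjZ z hz.1 p)
  rw [w.conjK z hz.1]
  intro x hx
  rw [mem_cj] at hx
  have : x = p * (p⁻¹ * x * p) * p⁻¹ := by group
  rw [this]
  exact mul_mem (mul_mem hp (h z hz hx)) (inv_mem hp)

/-- the product of the members of `S` -/
theorem exists_D : ∃ D ≤ S, IsPGroup 2 D ∧ (∀ z ∈ OmZ Z K S, K z ≤ D) ∧
    ∀ x : G, (∀ z ∈ OmZ Z K S, Ce x (K z)) → Ce x D := by
  refine ⟨⨆ z : OmZ Z K S, K z, iSup_le fun z => z.2.2, hS.two.to_le (iSup_le fun z => z.2.2),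
    fun z hz => le_iSup (fun z : OmZ Z K S => K z) ⟨z, hz⟩, ?_⟩
  intro x hx d hd
  have h1 : (⨆ z : OmZ Z K S, K z) ≤ centralizer {x} := iSup_le fun z k hk =>
    mem_centralizer_singleton_iff.2 (hx z z.2 k hk).symm
  exact (mem_centralizer_singleton_iff.1 (h1 hd)).symm

/-- a member commuting with the members of `S` is one of them -/
theorem om_of_cm {u : G} (hu : u ∈ Z) (h : ∀ z ∈ OmZ Z K S, z ≠ u → Cm (K z) (K u)) : u ∈ OmZ Z K S := by
  by_contra hno
  obtain ⟨D, -, hD2, hKD, hD⟩ := w.exists_D hS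
  have h1 : K u ≤ normalizer (D : Set G) := by
    intro k hk
    apply mem_normalizer_of_conj_le
    intro d hd
    have h2 : Ce k D := hD k (fun z hz k' hk' => (h z hz (fun e => hno (e ▸ hz)) k' hk' k hk).symm)
    have : k * d * k⁻¹ = d := by rw [h2 d hd]; group
    rw [this]; exact hd
  have h2 : IsPGroup 2 (K u ⊔ D : Subgroup G) := OneBasic.isPGroup_sup_of_normalizes (w.two hu) hD2 h1
  exact hno (w.om_eq hS h2 (fun z hz => (hKD z hz).trans le_sup_right) hu le_sup_left)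

theorem TS_ce {t : G} (ht : t ∈ TS Z K S) {z : G} (hz : z ∈ OmZ Z K S) : Ce t (K z) := by
  have h1 : TS Z K S ≤ centralizer (K z : Set G) := by
    unfold TS
    rw [closure_le]
    intro u hu
    rw [SetLike.mem_coe, mem_centralizer_iff]
    intro k hk
    by_cases hne : z = u
    · subst hne
      exact (w.ce_self hz.1 k hk).symm
    · exact w.om_cm hz hu hne hS.two k hk u (w.mem u hu.1)
  intro k hk
  exact (mem_centralizer_iff.1 (h1 ht) k hk).symm

omit [Finite G] hS in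
theorem T0_le : T0 Z K S ≤ TS Z K S := by
  unfold T0 TS
  rw [closure_le]
  rintro _ ⟨z, hz, u, hu, rfl⟩
  exact mul_mem (Subgroup.subset_closure hz) (Subgroup.subset_closure hu)

theorem TS_comm {s t : G} (hs : s ∈ TS Z K S) (ht : t ∈ TS Z K S) : s * t = t * s := by
  have h1 : TS Z K S ≤ centralizer {t} := by
    conv_lhs => unfold TS
    rw [closure_le]
    intro u hu
    rw [SetLike.mem_coe, mem_centralizer_singleton_iff]
    exact (w.TS_ce hS ht hu u (w.mem u hu.1)).symm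
  exact mem_centralizer_singleton_iff.1 (h1 hs)

omit hS in
theorem TS_le_S (hS2 : IsPGroup 2 S) : TS Z K S ≤ S := by
  unfold TS
  rw [closure_le]
  intro u hu
  exact hu.2 (w.mem u hu.1)

theorem TS_sq {s : G} (hs : s ∈ TS Z K S) : s * s = 1 := by
  have hs' := hs
  unfold TS at hs'
  induction hs' using Subgroup.closure_induction with
  | mem x hx => exact w.sq x hx.1
  | one => rw [one_mul]
  | mul x y hx hy h1 h2 =>
    have h3 := w.TS_comm hS hx hy
    calc x * y * (x * y) = x * (y * x) * y := by group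
      _ = x * (x * y) * y := by rw [h3]
      _ = (x * x) * (y * y) := by group
      _ = 1 := by rw [h1 hx, h2 hy, one_mul]
  | inv x hx h1 =>
    calc x⁻¹ * x⁻¹ = (x * x)⁻¹ := by group
      _ = 1 := by rw [h1 hx, inv_one]

omit [Finite G] hS in
/-- elements permuting the members normalise `T₀` -/
theorem T0_nor {g : G} (hg : ∀ z ∈ OmZ Z K S, g * z * g⁻¹ ∈ OmZ Z K S) {t : G} (ht : t ∈ T0 Z K S) :
    g * t * g⁻¹ ∈ T0 Z K S := by
  have h1 : T0 Z K S ≤ (T0 Z K S).comap (MulAut.conj g).toMonoidHom := by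
    conv_lhs => unfold T0
    rw [closure_le]
    rintro _ ⟨z, hz, u, hu, rfl⟩
    show g * (z * u) * g⁻¹ ∈ T0 Z K S
    have : g * (z * u) * g⁻¹ = (g * z * g⁻¹) * (g * u * g⁻¹) := by group
    rw [this]
    exact Subgroup.subset_closure ⟨_, hg z hz, _, hg u hu, rfl⟩
  exact h1 ht

omit [Finite G] hS in
theorem mul_mem_T0 {z u : G} (hz : z ∈ OmZ Z K S) (hu : u ∈ OmZ Z K S) : z * u ∈ T0 Z K S :=
  Subgroup.subset_closure ⟨z, hz, u, hu, rfl⟩

theorem T0_comm {s t : G} (hs : s ∈ T0 Z K S) (ht : t ∈ T0 Z K S) : s * t = t * s :=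
  w.TS_comm hS (w.T0_le hs) (w.T0_le ht)

theorem T0_ce {t : G} (ht : t ∈ T0 Z K S) {z : G} (hz : z ∈ OmZ Z K S) : Ce t (K z) := w.TS_ce hS (w.T0_le ht) hz

/-- `S` normalises `T₀` -/
theorem S_nor {s : G} (hs : s ∈ S) {z : G} (hz : z ∈ OmZ Z K S) : s * z * s⁻¹ ∈ OmZ Z K S :=
  w.om_perm hS hS.two (fun z hz => hz.2) hs hz

end BG

namespace BG

variable (w : BG Z K)

include w

theorem om_conj' {s z c : G} (hc : c * s = s * c) (hz : z ∈ Om Z K s) : c * z * c⁻¹ ∈ Om Z K s := by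
  refine ⟨w.conjZ z hz.1 c, ?_⟩
  rw [w.conjK z hz.1]
  have h1 := hz.2.cj c
  have : c * s * c⁻¹ = s := by rw [hc]; group
  rwa [this] at h1

theorem cl_conj {s z u c : G} (hc : c * s = s * c) (hz : z ∈ Om Z K s) (hu : u ∈ Cl Z K s z) :
    c * u * c⁻¹ ∈ Cl Z K s (c * z * c⁻¹) := by
  have hu' : Relation.ReflTransGen (St Z K s) z u := hu
  clear hu
  induction hu' with
  | refl => exact cl_refl _ _
  | tail h1 h2 ih =>
    apply cl_step ih (w.om_conj' hc h2.1)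
    intro h
    exact h2.2 ((w.cm_conj_iff (cl_sub hz h1).1 h2.1.1 c).1 h)

variable [Finite G]

theorem Gp_conj {A : Set G} (hA : A ⊆ Z) {c : G} (h : ∀ u ∈ A, c * u * c⁻¹ ∈ A) :
    c ∈ normalizer (Gp K A : Set G) := by
  apply mem_normalizer_of_conj_le
  intro x hx
  have h1 : Gp K A ≤ (Gp K A).comap (MulAut.conj c).toMonoidHom := Gp_le fun u hu k hk => by
    show c * k * c⁻¹ ∈ Gp K A
    have h2 : c * k * c⁻¹ ∈ K (c * u * c⁻¹) := by
      rw [w.conjK u (hA hu)]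
      exact conj_mem_cj hk
    exact le_Gp (h u hu) h2
  exact h1 hx

/-- `B = ⟨class⟩` is subnormal in `C(s)`: an element of `O₂(B)` lies in `O₂(C(s))` -/
theorem oP_up {s z : G} (hz : z ∈ Om Z K s) {x : G} (hx : x ∈ oP 2 (Gp K (Cl Z K s z))) :
    x ∈ oP 2 (centralizer {s}) := by
  set B := Gp K (Cl Z K s z) with hB
  set X := Gp K (Om Z K s) with hX
  have hOZ : Om Z K s ⊆ Z := fun u hu => hu.1
  have hBX : B ≤ X := Gp_le fun u hu => le_Gp (cl_sub hz hu)
  have hXC : X ≤ centralizer {s} := Gp_le fun u hu k hk => mem_centralizer_singleton_iff.2 (hu.2 k hk).symm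
  have h1 : X ≤ normalizer (B : Set G) := Gp_le fun u hu k hk => by
    by_cases hc : u ∈ Cl Z K s z
    · exact le_normalizer (le_Gp hc hk)
    · apply mem_normalizer_of_conj_le
      intro b hb
      have h2 : Ce k B := Gp_ce fun v hv l hl => ((cl_cm hv hu hc) l hl k hk).symm
      have : k * b * k⁻¹ = b := by rw [h2 b hb]; group
      rw [this]; exact hb
  have h2 : centralizer {s} ≤ normalizer (X : Set G) := fun c hc =>
    w.Gp_conj hOZ (fun u hu => w.om_conj' (mem_centralizer_singleton_iff.1 hc) hu)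
  have h3 : oP 2 B ≤ oP 2 X := le_oP ((oP_le 2 B).trans hBX) (isPGroup_oP 2 B) (h1.trans (normalizer_le_oP 2 B))
  have h4 : oP 2 X ≤ oP 2 (centralizer {s}) :=
    le_oP ((oP_le 2 X).trans hXC) (isPGroup_oP 2 X) (h2.trans (normalizer_le_oP 2 X))
  exact h4 (h3 hx)

omit w in
/-- an element of `B ∩ O₂(C)`, `B ≤ C`, lies in `O₂(B)` -/
theorem oP_down {B C : Subgroup G} (h : B ≤ C) {x : G} (hx : x ∈ oP 2 C) (hxB : x ∈ B) : x ∈ oP 2 B := by
  have h1 : oP 2 C ⊓ B ≤ oP 2 B := by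
    apply le_oP inf_le_right ((isPGroup_oP 2 C).to_le inf_le_left)
    exact le_normalizer_inf (h.trans (le_normalizer_oP 2 C)) le_normalizer
  exact h1 (mem_inf.2 ⟨hx, hxB⟩)

variable {S : Subgroup G} (hS : IsSyl S ⊤)

include hS

/-- (0): the members of `C(s)` are conjugate into `OmZ S` -/
theorem om_into {s : G} (hs : ∀ z ∈ OmZ Z K S, Ce s (K z)) {z : G} (hz : z ∈ Om Z K s) :
    ∃ c, c * s = s * c ∧ c * z * c⁻¹ ∈ OmZ Z K S := by
  obtain ⟨D, -, hD2, hKD, hD⟩ := w.exists_D hS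
  have hDs : D ≤ centralizer {s} := fun d hd => mem_centralizer_singleton_iff.2 (hD s hs d hd).symm
  obtain ⟨P, hP, hDP⟩ := exists_isSyl hD2 hDs
  have hKs : K z ≤ centralizer {s} := fun k hk => mem_centralizer_singleton_iff.2 (hz.2 k hk).symm
  obtain ⟨c, hc, hc2⟩ := hP.exists_conj (w.two hz.1) hKs
  refine ⟨c, mem_centralizer_singleton_iff.1 hc, ?_⟩
  apply w.om_eq hS hP.two (fun u hu => (hKD u hu).trans hDP) (w.conjZ z hz.1 c)
  rw [w.conjK z hz.1]
  intro x hx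
  rw [mem_cj] at hx
  have := hc2 _ hx
  have e : c * (c⁻¹ * x * c) * c⁻¹ = x := by group
  rwa [e] at this

theorem om_mem {s z : G} (hs : s ∈ TS Z K S) (hz : z ∈ OmZ Z K S) : z ∈ Om Z K s := ⟨hz.1, w.TS_ce hS hs hz⟩

end BG

namespace AG

variable (w : AG Z K) [Finite G] {S : Subgroup G} (hS : IsSyl S ⊤)

include w hS

/-- (1a) -/
theorem all_mem {s z : G} (hs : s ∈ TS Z K S) (hz : z ∈ OmZ Z K S) (hn : z ∉ oP 2 (centralizer {s})) {u : G}
    (hu : u ∈ OmZ Z K S) : u ∈ Cl Z K s z := by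
  by_contra hc
  apply hn
  have hzs := w.om_mem hS hs hz
  have hus := w.om_mem hS hs hu
  have h1 : Gp K (Cl Z K s z) ≤ centralizer {u} := Gp_le fun v hv k hk =>
    mem_centralizer_singleton_iff.2 (cl_cm hv hus hc k hk u (w.mem u hu.1))
  apply w.oP_up hzs
  have h2 : z ∈ oP 2 (centralizer {u}) := w.nil u hu.1 z hz.1 (cl_cm (cl_refl s z) hus hc).symm
  exact BG.oP_down h1 h2 (le_Gp (cl_refl s z) (w.mem z hz.1))

end AG

namespace AG

variable (w : AG Z K) [Finite G] {S : Subgroup G} (hS : IsSyl S ⊤)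

include w hS

/-- Step (1). -/
theorem exists_fr (tp : ∀ s ∈ TS Z K S, s ≠ 1 → ∀ z ∈ OmZ Z K S, z ∈ oP 2 (centralizer {s}) ∨ OneC Z K s z)
    {s z0 : G} (hs : s ∈ TS Z K S) (hs1 : s ≠ 1) (hz0 : z0 ∈ Om Z K s) (hn0 : z0 ∉ oP 2 (centralizer {s}))
    {a b : G} (ha : a ∈ OmZ Z K S) (hb : b ∈ OmZ Z K S) (hab : a ≠ b) : ∃ KK, AN.Fr Z K S KK := by
  -- a member of `S` which is not nil
  obtain ⟨c, hc, hcz⟩ := w.om_into hS (fun z hz => w.TS_ce hS hs hz) hz0
  set z := c * z0 * c⁻¹ with hzdef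
  have hn : z ∉ oP 2 (centralizer {s}) := by
    intro h
    apply hn0
    have h1 : c⁻¹ ∈ normalizer (oP 2 (centralizer {s}) : Set G) :=
      le_normalizer_oP 2 _ (inv_mem (mem_centralizer_singleton_iff.2 hc))
    have h2 := conj_mem_of_mem_normalizer h1 h
    have e : c⁻¹ * z * c⁻¹⁻¹ = z0 := by rw [hzdef]; group
    rwa [e] at h2
  have hone := (tp s hs hs1 z hcz).resolve_left hn
  have hall : ∀ u ∈ OmZ Z K S, u ∈ Cl Z K s z := fun u hu => w.all_mem hS hs hcz hn hu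
  have hzs := w.om_mem hS hs hcz
  -- `T₀` centralises the class
  have hT0 : ∀ t ∈ T0 Z K S, ∀ u ∈ Cl Z K s z, Ce t (K u) := by
    intro t ht u hu
    have h1 : T0 Z K S ≤ centralizer (K u : Set G) := by
      unfold T0
      rw [closure_le]
      rintro _ ⟨x, hx, y, hy, rfl⟩
      rw [SetLike.mem_coe, mem_centralizer_iff]
      intro k hk
      by_cases hxy : x = y
      · subst hxy
        rw [w.sq x hx.1, one_mul, mul_one]
      · exact (hone x (hall x hx) y (hall y hy) (w.om_cm hx hy hxy hS.two) u hu k hk).symm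
    intro k hk
    exact (mem_centralizer_iff.1 (h1 ht) k hk).symm
  -- no `t ∈ T₀#` is nil
  have hnt : ∀ t ∈ T0 Z K S, t ≠ 1 → z ∉ oP 2 (centralizer {t}) := by
    intro t ht _ h
    apply hn
    apply w.oP_up hzs
    have h1 : Gp K (Cl Z K s z) ≤ centralizer {t} := Gp_le fun v hv k hk =>
      mem_centralizer_singleton_iff.2 (hT0 t ht v hv k hk).symm
    exact BG.oP_down h1 h (le_Gp (cl_refl s z) (w.mem z hcz.1))
  have hall' : ∀ t ∈ T0 Z K S, t ≠ 1 → ∀ u ∈ OmZ Z K S, u ∈ Cl Z K t z := fun t ht ht1 u hu =>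
    w.all_mem hS (w.T0_le ht) hcz (hnt t ht ht1) hu
  have hone' : ∀ t ∈ T0 Z K S, t ≠ 1 → OneC Z K t z := fun t ht ht1 =>
    (tp t (w.T0_le ht) ht1 z hcz).resolve_left (hnt t ht ht1)
  have hT0' : ∀ t ∈ T0 Z K S, t ≠ 1 → ∀ t' ∈ T0 Z K S, ∀ u ∈ Cl Z K t z, Ce t' (K u) := by
    intro t ht ht1 t' ht' u hu
    have h1 : T0 Z K S ≤ centralizer (K u : Set G) := by
      unfold T0
      rw [closure_le]
      rintro _ ⟨x, hx, y, hy, rfl⟩
      rw [SetLike.mem_coe, mem_centralizer_iff]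
      intro k hk
      by_cases hxy : x = y
      · subst hxy
        rw [w.sq x hx.1, one_mul, mul_one]
      · exact (hone' t ht ht1 x (hall' t ht ht1 x hx) y (hall' t ht ht1 y hy) (w.om_cm hx hy hxy hS.two) u hu k hk).symm
    intro k hk
    exact (mem_centralizer_iff.1 (h1 ht') k hk).symm
  -- the class does not depend on `t`
  have hsub : ∀ t ∈ T0 Z K S, t ≠ 1 → ∀ t' ∈ T0 Z K S, Cl Z K t z ⊆ Cl Z K t' z := by
    intro t ht ht1 t' ht' u hu
    have hu' : Relation.ReflTransGen (St Z K t) z u := hu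
    clear hu
    induction hu' with
    | refl => exact cl_refl _ _
    | @tail b c h1 h2 ih =>
      refine cl_step ih ⟨h2.1.1, ?_⟩ h2.2
      exact hT0' t ht ht1 t' ht' c (Relation.ReflTransGen.tail h1 h2)
  -- every member of `C(t)` lies in the class
  have hom : ∀ t ∈ T0 Z K S, t ≠ 1 → Om Z K t = Cl Z K t z := by
    intro t ht ht1
    have hzt := w.om_mem hS (w.T0_le ht) hcz
    apply Set.Subset.antisymm
    · intro u hu
      obtain ⟨c, hc, hcu⟩ := w.om_into hS (fun z hz => w.T0_ce hS ht hz) hu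
      have hc' : c⁻¹ * t = t * c⁻¹ := by
        calc c⁻¹ * t = c⁻¹ * (t * c) * c⁻¹ := by group
          _ = c⁻¹ * (c * t) * c⁻¹ := by rw [hc]
          _ = t * c⁻¹ := by group
      have h1 := w.cl_conj hc' hzt (hall' t ht ht1 _ hcu)
      have e : c⁻¹ * (c * u * c⁻¹) * c⁻¹⁻¹ = u := by group
      rw [e] at h1
      -- `h1 : u ∈ Cl t (c⁻¹ z c)`
      by_cases hcl : c⁻¹ * z * c⁻¹⁻¹ ∈ Cl Z K t z
      · exact cl_trans hcl h1
      · exfalso
        apply hcl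
        apply hall' t ht ht1
        have hzc : c⁻¹ * z * c⁻¹⁻¹ ∈ Om Z K t := w.om_conj' hc' hzt
        apply w.om_of_cm hS hzc.1
        intro v hv _
        exact cl_cm (hall' t ht ht1 v hv) hzc hcl
    · exact fun u hu => cl_sub hzt hu
  -- an element of `T₀#`
  have habT : a * b ∈ T0 Z K S := w.mul_mem_T0 ha hb
  have hab1 : a * b ≠ 1 := by
    intro h
    apply hab
    rw [← w.inv hb.1]
    exact eq_inv_of_mul_eq_one_left h
  refine ⟨Cl Z K (a * b) z, fun u hu => hall' _ habT hab1 u hu, fun t ht ht1 => ?_, ?_⟩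
  · rw [hom t ht ht1]
    exact Set.Subset.antisymm (hsub t ht ht1 _ habT) (hsub _ habT hab1 t ht)
  · exact hone' _ habT hab1

end AG

end Cfsg.Agent.Cit.Nil.ANR
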