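import Cfsg.Agent.Cit.Nil.RTwoM.ANt.Grp
import Cfsg.Agent.Cit.Nil.AN.Two

/-!
# Step (2) of `AN(s)`, any `r`: `C(z) ≤ M₀ = N(T₀)`

`AX Z K` : `AG Z K` with the C-swap lemma, the centre of `R_z` and the J-argument; port of `Nil/AN/Two.lean`.
-/

set_option autoImplicit false
set_option linter.unusedSectionVars false

namespace Cfsg.Agent.Cit.Nil.ANR

open Subgroup Cfsg.Agent.Cit Cfsg.Agent.StdEven.Syl Cfsg.Agent.OddOrderLocal.NilParts
open Cfsg.Agent.Cit.Nil.AN (Cm Ce Om St Cl Gp OneC OmZ T0 TS cl_refl cl_sub cl_step cl_cm cl_symm cl_trans cl_eq le_Gp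
  Gp_le Gp_ce M0 isSyl_cj isPGroup_zpowers_inv self_mem_oP)

variable {G : Type*} [Group G]

/-- the nil world with the C-swap lemma and the J-argument -/
structure AX (Z : Set G) (K : G → Subgroup G) : Prop extends AG Z K where
  swap : ∀ x ∈ Z, ∀ z ∈ Z, Cm (K z) (K (x * z * x⁻¹)) → Ce (z * (x * z * x⁻¹)) (K x)
  cor : ∀ x ∈ Z, ∀ a ∈ K x, ∀ r ∈ K x, r * a * r⁻¹ = a ∨ r * a * r⁻¹ = x * a
  cen : ∀ x ∈ Z, ∀ a ∈ K x, (∀ r ∈ K x, a * r = r * a) → a = 1 ∨ a = x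
  jarg : ∀ S, IsSyl S ⊤ → ∀ x ∈ Z, (∀ t ∈ T0 Z K S, t * x = x * t) → (∀ t ∈ T0 Z K S, t ≠ 1 → ¬ Ce t (K x)) →
    (∀ t ∈ T0 Z K S, t ≠ 1 → ∀ r ∈ K x, r * t = t * r → ∀ s ∈ T0 Z K S, r * s * r⁻¹ ∈ T0 Z K S) →
    (∃ t ∈ T0 Z K S, ∃ t' ∈ T0 Z K S, t ≠ 1 ∧ t' ≠ 1 ∧ t ≠ t') → ∃ a ∈ T0 Z K S, a ∈ K x ∧ a ≠ 1

/-- the situation of the steps (2) - (4) -/
structure Fs (Z : Set G) (K : G → Subgroup G) (S : Subgroup G) (KK : Set G) : Prop where
  w : AX Z K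
  hS : IsSyl S ⊤
  fr : AN.Fr Z K S KK
  three : ∃ z₁ ∈ OmZ Z K S, ∃ z₂ ∈ OmZ Z K S, ∃ z₃ ∈ OmZ Z K S, z₁ ≠ z₂ ∧ z₁ ≠ z₃ ∧ z₂ ≠ z₃

variable {Z : Set G} {K : G → Subgroup G} {S : Subgroup G} {KK : Set G}

theorem BG.omZ_cj (w : BG Z K) {g z : G} : z ∈ OmZ Z K (cj g S) ↔ g⁻¹ * z * g ∈ OmZ Z K S := by
  constructor
  · rintro ⟨h1, h2⟩
    have h3 := w.conjZ z h1 g⁻¹
    have h4 := w.conjK z h1 g⁻¹
    rw [inv_inv] at h3 h4
    refine ⟨h3, ?_⟩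
    rw [h4]
    have := cj_mono g⁻¹ h2
    rwa [cj_inv_cj] at this
  · rintro ⟨h1, h2⟩
    have h3 := w.conjZ _ h1 g
    have h4 := w.conjK _ h1 g
    have e : g * (g⁻¹ * z * g) * g⁻¹ = z := by group
    rw [e] at h3 h4
    exact ⟨h3, by rw [h4]; exact cj_mono g h2⟩

theorem BG.T0_cj (w : BG Z K) (g : G) : T0 Z K (cj g S) = cj g (T0 Z K S) := by
  have key : ∀ (S : Subgroup G) (g : G), T0 Z K (cj g S) ≤ cj g (T0 Z K S) := by
    intro S g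
    conv_lhs => unfold T0
    rw [closure_le]
    rintro _ ⟨z, hz, u, hu, rfl⟩
    rw [SetLike.mem_coe, mem_cj]
    have : g⁻¹ * (z * u) * g = (g⁻¹ * z * g) * (g⁻¹ * u * g) := by group
    rw [this]
    exact w.mul_mem_T0 (w.omZ_cj.1 hz) (w.omZ_cj.1 hu)
  apply le_antisymm (key S g)
  have h1 := key (cj g S) g⁻¹
  rw [cj_inv_cj] at h1
  have h2 := cj_mono g h1
  rwa [cj_cj_inv] at h2

namespace Fs

variable [Finite G] (F : Fs Z K S KK)

include F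

theorem conj (g : G) : Fs Z K (cj g S) ((fun z => g * z * g⁻¹) '' KK) := by
  have e : ∀ x : G, g⁻¹ * (g * x * g⁻¹) * g = x := fun x => by group
  have e' : ∀ x : G, g * (g⁻¹ * x * g) * g⁻¹ = x := fun x => by group
  have hsub : ∀ u ∈ KK, u ∈ Z := by
    obtain ⟨a, ha, b, hb, -, -, hab, -, -⟩ := F.three
    intro u hu
    have h1 : a * b ≠ 1 := fun h => hab (by rw [← F.w.inv hb.1]; exact eq_inv_of_mul_eq_one_left h)
    rw [← F.fr.om _ (F.w.mul_mem_T0 ha hb) h1] at hu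
    exact hu.1
  refine ⟨F.w, isSyl_cj F.hS g, ⟨?_, ?_, ?_⟩, ?_⟩
  · intro z hz
    exact ⟨_, F.fr.sub (F.w.omZ_cj.1 hz), e' z⟩
  · intro t ht ht1
    rw [F.w.T0_cj, mem_cj] at ht
    have ht1' : g⁻¹ * t * g ≠ 1 := by
      intro h
      apply ht1
      rw [← e' t, h]
      group
    have h1 := F.fr.om _ ht ht1'
    ext z
    constructor
    · intro hz
      refine ⟨g⁻¹ * z * g, ?_, e' z⟩
      rw [← h1]
      have h2 := F.w.conjZ z hz.1 g⁻¹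
      have h3 := F.w.conjK z hz.1 g⁻¹
      rw [inv_inv] at h2 h3
      refine ⟨h2, ?_⟩
      rw [h3]
      have h4 := hz.2.cj g⁻¹
      rwa [inv_inv] at h4
    · rintro ⟨z, hz, rfl⟩
      rw [← h1] at hz
      refine ⟨F.w.conjZ z hz.1 g, ?_⟩
      show Ce t (K (g * z * g⁻¹))
      rw [F.w.conjK z hz.1]
      have h4 := hz.2.cj g
      rwa [e'] at h4
  · rintro _ ⟨u, hu, rfl⟩ _ ⟨v, hv, rfl⟩ hc _ ⟨x, hx, rfl⟩
    have h1 := F.fr.one u hu v hv ((F.w.cm_conj_iff (hsub u hu) (hsub v hv) g).1 hc) x hx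
    show Ce (g * u * g⁻¹ * (g * v * g⁻¹)) (K (g * x * g⁻¹))
    rw [F.w.conjK x (hsub x hx)]
    have h2 := h1.cj g
    have h3 : g * (u * v) * g⁻¹ = g * u * g⁻¹ * (g * v * g⁻¹) := by group
    rwa [h3] at h2
  · obtain ⟨a, ha, b, hb, c, hc, hab, hac, hbc⟩ := F.three
    refine ⟨g * a * g⁻¹, F.w.om_conj ha g, g * b * g⁻¹, F.w.om_conj hb g, g * c * g⁻¹, F.w.om_conj hc g, ?_, ?_, ?_⟩
    · intro h; exact hab (by rw [← e a, h, e])
    · intro h; exact hac (by rw [← e a, h, e])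
    · intro h; exact hbc (by rw [← e b, h, e])

/-- two other members -/
theorem exists_two {z : G} (_ : z ∈ OmZ Z K S) :
    ∃ u ∈ OmZ Z K S, ∃ v ∈ OmZ Z K S, z ≠ u ∧ z ≠ v ∧ u ≠ v := by
  obtain ⟨a, ha, b, hb, c, hc, hab, hac, hbc⟩ := F.three
  by_cases h1 : z = a
  · subst h1; exact ⟨b, hb, c, hc, hab, hac, hbc⟩
  by_cases h2 : z = b
  · subst h2; exact ⟨a, ha, c, hc, h1, hbc, hac⟩
  · exact ⟨a, ha, b, hb, h1, h2, hab⟩

omit [Finite G] in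
theorem mul_ne {u v : G} (hv : v ∈ OmZ Z K S) (h : u ≠ v) : u * v ≠ 1 := fun h1 =>
  h (by rw [← F.w.inv hv.1]; exact eq_inv_of_mul_eq_one_left h1)

theorem exists_t : ∃ t ∈ T0 Z K S, t ≠ 1 := by
  obtain ⟨a, ha, b, hb, -, -, hab, -, -⟩ := F.three
  exact ⟨a * b, F.w.mul_mem_T0 ha hb, F.mul_ne hb hab⟩

theorem kk_Z {u : G} (hu : u ∈ KK) : u ∈ Z := by
  obtain ⟨t, ht, ht1⟩ := F.exists_t
  rw [← F.fr.om t ht ht1] at hu
  exact hu.1

theorem kk_ce {u : G} (hu : u ∈ KK) {t : G} (ht : t ∈ T0 Z K S) : Ce t (K u) := by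
  by_cases h1 : t = 1
  · rw [h1]; exact Ce.one _
  · rw [← F.fr.om t ht h1] at hu
    exact hu.2

theorem mem_kk {u : G} (hu : u ∈ Z) {t : G} (ht : t ∈ T0 Z K S) (ht1 : t ≠ 1) (h : Ce t (K u)) : u ∈ KK := by
  rw [← F.fr.om t ht ht1]
  exact ⟨hu, h⟩

/-- `M₀` stabilises `KK` -/
theorem kk_conj {g z : G} (hg : g ∈ M0 Z K S) (hz : z ∈ KK) : g * z * g⁻¹ ∈ KK := by
  obtain ⟨t, ht, ht1⟩ := F.exists_t
  have hzZ := F.kk_Z hz
  have h1 : g * t * g⁻¹ ∈ T0 Z K S := conj_mem_of_mem_normalizer hg ht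
  have h2 : g * t * g⁻¹ ≠ 1 := by
    intro h
    apply ht1
    calc t = g⁻¹ * (g * t * g⁻¹) * g := by group
      _ = 1 := by rw [h]; group
  apply F.mem_kk (F.w.conjZ z hzZ g) h1 h2
  rw [F.w.conjK z hzZ]
  exact (F.kk_ce hz ht).cj g

theorem mem_M0_of_perm {g : G} (hg : ∀ z ∈ OmZ Z K S, g * z * g⁻¹ ∈ OmZ Z K S) : g ∈ M0 Z K S :=
  mem_normalizer_of_conj_le fun _ ht => F.w.T0_nor hg ht

theorem S_le : S ≤ M0 Z K S := fun _ hs => F.mem_M0_of_perm fun _ hz => F.w.S_nor F.hS hs hz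

/-- the stabiliser of `KK` is contained in `M₀` -/
theorem mem_M0_of_kk {g : G} (hg : ∀ z ∈ KK, g * z * g⁻¹ ∈ KK) : g ∈ M0 Z K S := by
  obtain ⟨D, -, hD2, hKD, -⟩ := F.w.exists_D F.hS
  set D' : Subgroup G := ⨆ u : OmZ Z K S, K u with hD'
  have hD'D : D' ≤ D := iSup_le fun u => hKD u u.2
  have hD'2 : IsPGroup 2 D' := hD2.to_le hD'D
  have hD'B : D' ≤ Gp K KK := iSup_le fun u => le_Gp (F.fr.sub u.2)
  obtain ⟨P, hP, hDP⟩ := exists_isSyl hD'2 hD'B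
  -- the conjugate of `D'`
  have h1 : cj g D' ≤ Gp K KK := by
    intro x hx
    rw [mem_cj] at hx
    have h2 : D' ≤ (Gp K KK).comap (MulAut.conj g).toMonoidHom := iSup_le fun u k hk => by
      show g * k * g⁻¹ ∈ Gp K KK
      have h3 : g * k * g⁻¹ ∈ K (g * u * g⁻¹) := by
        rw [F.w.conjK u u.2.1]
        exact conj_mem_cj hk
      exact le_Gp (hg u (F.fr.sub u.2)) h3
    have h3 : g * (g⁻¹ * x * g) * g⁻¹ ∈ Gp K KK := h2 hx
    have e : g * (g⁻¹ * x * g) * g⁻¹ = x := by group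
    rwa [e] at h3
  obtain ⟨b, hb, hb2⟩ := hP.exists_conj (isPGroup_cj hD'2) h1
  have hbM : b ∈ M0 Z K S := by
    apply mem_normalizer_of_conj_le
    intro t ht
    have h2 : Ce t (Gp K KK) := Gp_ce fun u hu => F.kk_ce hu ht
    have h3 := h2 b hb
    rw [← h3, mul_inv_cancel_right]
    exact ht
  have hbg : b * g ∈ M0 Z K S := by
    apply F.mem_M0_of_perm
    intro z hz
    apply F.w.om_eq F.hS hP.two (fun u hu => (le_iSup (fun u : OmZ Z K S => K u) ⟨u, hu⟩).trans hDP)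
      (F.w.conjZ z hz.1 _)
    rw [F.w.conjK z hz.1]
    intro x hx
    rw [mem_cj] at hx
    have h3 : (b * g)⁻¹ * x * (b * g) ∈ D' := (le_iSup (fun u : OmZ Z K S => K u) ⟨z, hz⟩) hx
    have h4 := hb2 _ (conj_mem_cj (g := g) h3)
    have e : b * (g * ((b * g)⁻¹ * x * (b * g)) * g⁻¹) * b⁻¹ = x := by group
    rwa [e] at h4
  have : g = b⁻¹ * (b * g) := by group
  rw [this]
  exact mul_mem (inv_mem hbM) hbg

/-- `T₀` is TI -/
theorem ti {g t : G} (ht : t ∈ T0 Z K S) (ht1 : t ≠ 1) (h : g * t * g⁻¹ ∈ T0 Z K S) : g ∈ M0 Z K S := by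
  apply F.mem_M0_of_kk
  intro z hz
  have hzZ := F.kk_Z hz
  have h2 : g * t * g⁻¹ ≠ 1 := by
    intro h
    apply ht1
    calc t = g⁻¹ * (g * t * g⁻¹) * g := by group
      _ = 1 := by rw [h]; group
  apply F.mem_kk (F.w.conjZ z hzZ g) h h2
  rw [F.w.conjK z hzZ]
  exact (F.kk_ce hz ht).cj g

theorem cent_le {g t : G} (ht : t ∈ T0 Z K S) (ht1 : t ≠ 1) (h : g * t = t * g) : g ∈ M0 Z K S := by
  apply F.ti ht ht1
  rw [h, mul_inv_cancel_right]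
  exact ht

theorem exists_c {u : G} (hu : u ∈ KK) : ∃ c ∈ M0 Z K S, c * u * c⁻¹ ∈ OmZ Z K S := by
  obtain ⟨t, ht, ht1⟩ := F.exists_t
  rw [← F.fr.om t ht ht1] at hu
  obtain ⟨c, hc, hcu⟩ := F.w.om_into F.hS (fun z hz => F.w.T0_ce F.hS ht hz) hu
  exact ⟨c, F.cent_le ht ht1 hc, hcu⟩

/-- `O₂(C(z)) ≤ M₀` for `z ∈ OmZ S` -/
theorem oP_le_M0 {z : G} (hz : z ∈ OmZ Z K S) : oP 2 (centralizer {z}) ≤ M0 Z K S := by
  obtain ⟨D, hDS, hD2, hKD, -⟩ := F.w.exists_D F.hS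
  set D' : Subgroup G := ⨆ u : OmZ Z K S, K u with hD'
  have hD'D : D' ≤ D := iSup_le fun u => hKD u u.2
  have hD'2 : IsPGroup 2 D' := hD2.to_le hD'D
  have hD'C : D' ≤ centralizer {z} := iSup_le fun u k hk => by
    rw [mem_centralizer_singleton_iff]
    by_cases h : (u : G) = z
    · have hk' : k ∈ K z := by rw [← h]; exact hk
      exact (F.w.ce_self hz.1 k hk').symm
    · exact F.w.om_cm u.2 hz h F.hS.two k hk z (F.w.mem z hz.1)
  have h1 : IsPGroup 2 (D' ⊔ oP 2 (centralizer {z}) : Subgroup G) :=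
    OneBasic.isPGroup_sup_of_normalizes hD'2 (isPGroup_oP 2 _) (hD'C.trans (le_normalizer_oP 2 _))
  intro p hp
  apply F.mem_M0_of_perm
  intro u hu
  exact F.w.om_perm F.hS h1 (fun v hv => (le_iSup (fun u : OmZ Z K S => K u) ⟨v, hv⟩).trans le_sup_left)
    ((le_sup_right : oP 2 (centralizer {z}) ≤ _) hp) hu

theorem om_mem_oP {z u : G} (hz : z ∈ OmZ Z K S) (hu : u ∈ OmZ Z K S) : u ∈ oP 2 (centralizer {z}) := by
  by_cases h : z = u
  · subst h; exact self_mem_oP (F.w.sq z hz.1)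
  · exact F.w.nil z hz.1 u hu.1 (F.w.om_cm hz hu h F.hS.two)

theorem T0_le_oP {z : G} (hz : z ∈ OmZ Z K S) : T0 Z K S ≤ oP 2 (centralizer {z}) := by
  conv_lhs => unfold T0
  rw [closure_le]
  rintro _ ⟨u, hu, v, hv, rfl⟩
  exact mul_mem (F.om_mem_oP hz hu) (F.om_mem_oP hz hv)

/-- Step (2): `C(z) ≤ M₀` for `z ∈ OmZ S` -/
theorem cent_om {z g : G} (hz : z ∈ OmZ Z K S) (hg : g * z = z * g) : g ∈ M0 Z K S := by
  by_contra hgM
  have F' := F.conj g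
  set S' := cj g S with hS'
  set KK' := (fun z => g * z * g⁻¹) '' KK with hKK'
  have hzg : g * z * g⁻¹ = z := by rw [hg, mul_inv_cancel_right]
  have hz' : z ∈ OmZ Z K S' := by
    have := F.w.om_conj hz g
    rwa [hzg] at this
  -- `T₀ ∩ T₁ = 1`
  have hti : ∀ t ∈ T0 Z K S, t ∈ T0 Z K S' → t = 1 := by
    intro t ht ht'
    by_contra ht1
    rw [hS', F.w.T0_cj, mem_cj] at ht'
    apply hgM
    have e : g * (g⁻¹ * t * g) * g⁻¹ = t := by group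
    refine F.ti ht' ?_ (by rw [e]; exact ht)
    intro h
    apply ht1
    rw [← e, h]; group
  -- they commute
  have hcomm : ∀ t ∈ T0 Z K S, ∀ s ∈ T0 Z K S', t * s = s * t := by
    intro t ht s hs
    have h1 : s ∈ M0 Z K S := F.oP_le_M0 hz (F'.T0_le_oP hz' hs)
    have h2 : t ∈ M0 Z K S' := F'.oP_le_M0 hz' (F.T0_le_oP hz ht)
    have h3 : t * s * t⁻¹ * s⁻¹ ∈ T0 Z K S := by
      have : t * s * t⁻¹ * s⁻¹ = t * (s * t⁻¹ * s⁻¹) := by group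
      rw [this]
      exact mul_mem ht (conj_mem_of_mem_normalizer h1 (inv_mem ht))
    have h4 : t * s * t⁻¹ * s⁻¹ ∈ T0 Z K S' :=
      mul_mem (conj_mem_of_mem_normalizer h2 hs) (inv_mem hs)
    have h5 := hti _ h3 h4
    calc t * s = (t * s * t⁻¹ * s⁻¹) * (s * t) := by group
      _ = s * t := by rw [h5, one_mul]
  -- (A)
  have hA : ∀ x ∈ OmZ Z K S, z ≠ x → x ∉ KK' := by
    intro x hx hzx hxK
    have hzxT := F.w.mul_mem_T0 hz hx
    have hzx1 := F.mul_ne hx hzx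
    have hCzx := F.w.om_cm hz hx hzx F.hS.two
    have h1 := F'.fr.one x hxK z (F'.fr.sub hz') hCzx.symm
    have h2 : x ∈ OmZ Z K S' := by
      apply F.w.om_of_cm F'.hS hx.1
      intro y hy hyx
      by_cases hyz : y = z
      · rw [hyz]; exact hCzx
      · apply F.w.csymm y hy.1 x hx.1 _ hyx
        have h3 : Ce z (K y) := fun k hk => (F.w.om_cm hz' hy (Ne.symm hyz) F'.hS.two) z (F.w.mem z hz.1) k hk
        have h4 := (h1 y (F'.fr.sub hy)).mul h3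
        have h5 : x * z * z = x := by rw [mul_assoc, F.w.sq z hz.1, mul_one]
        rwa [h5] at h4
    exact hzx1 (hti _ hzxT (F.w.mul_mem_T0 hz' h2))
  obtain ⟨x, hx, y, hy, hzx, hzy, hxy⟩ := F.exists_two hz
  obtain ⟨p, hp, q, hq, hzp, hzq, hpq⟩ := F'.exists_two hz'
  have hzxT := F.w.mul_mem_T0 hz hx
  have hCzx := F.w.om_cm hz hx hzx F.hS.two
  have hxc : ∀ c ∈ OmZ Z K S', x * c = c * x := by
    intro c hc
    have h1 := hcomm _ hzxT _ (F.w.mul_mem_T0 hz' hc)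
    have h2 : z * x = x * z := hCzx z (F.w.mem z hz.1) x (F.w.mem x hx.1)
    have h3 : z * c = c * z := by
      by_cases h : z = c
      · rw [h]
      · exact F.w.om_cm hz' hc h F'.hS.two z (F.w.mem z hz.1) c (F.w.mem c hc.1)
    calc x * c = (x * (z * z) * c) := by rw [F.w.sq z hz.1, mul_one]
      _ = (x * z) * (z * c) := by group
      _ = (z * x) * (z * c) := by rw [h2]
      _ = (z * c) * (z * x) := h1
      _ = (c * z) * (z * x) := by rw [h3]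
      _ = c * (z * z) * x := by group
      _ = c * x := by rw [F.w.sq z hz.1, mul_one]
  have hxt : ∀ t ∈ T0 Z K S', t * x = x * t := by
    intro t ht
    have h1 : TS Z K S' ≤ centralizer {x} := by
      unfold TS
      rw [closure_le]
      intro c hc
      exact mem_centralizer_singleton_iff.2 (hxc c hc).symm
    exact mem_centralizer_singleton_iff.1 (h1 (F.w.T0_le ht))
  have hxK := hA x hx hzx
  obtain ⟨a, ha, hax, ha1⟩ := F.w.jarg S' F'.hS x hx.1 hxt (fun t ht ht1 h1 => hxK (F'.mem_kk hx.1 ht ht1 h1))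
    (fun t ht ht1 r _ hrt s hs => conj_mem_of_mem_normalizer (F'.cent_le ht ht1 hrt) hs)
    ⟨z * p, F.w.mul_mem_T0 hz' hp, z * q, F.w.mul_mem_T0 hz' hq, F'.mul_ne hp hzp, F'.mul_ne hq hzq,
      fun h => hpq (mul_left_cancel h)⟩
  exact hA y hy hzy (F'.mem_kk hy.1 ha ha1 fun k hk => F.w.om_cm hx hy hxy F.hS.two a hax k hk)

/-- Step (2): `C(z) ≤ M₀` for `z ∈ KK` -/
theorem cent_kk {z g : G} (hz : z ∈ KK) (hg : g * z = z * g) : g ∈ M0 Z K S := by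
  obtain ⟨c, hc, hcz⟩ := F.exists_c hz
  have h1 : c * g * c⁻¹ ∈ M0 Z K S := by
    apply F.cent_om hcz
    calc c * g * c⁻¹ * (c * z * c⁻¹) = c * (g * z) * c⁻¹ := by group
      _ = c * (z * g) * c⁻¹ := by rw [hg]
      _ = c * z * c⁻¹ * (c * g * c⁻¹) := by group
  have : g = c⁻¹ * (c * g * c⁻¹) * c := by group
  rw [this]
  exact mul_mem (mul_mem (inv_mem hc) h1) hc

end Fs

end Cfsg.Agent.Cit.Nil.ANR
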